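import Cfsg.Agent.Lib.PSLThree.Two.Invol

/-!
# The centraliser of an involution of `Bar G` acting on the axis
-/

set_option autoImplicit false
set_option linter.unusedSectionVars false
set_option linter.unusedSimpArgs false
set_option linter.style.haveILetI false
set_option maxHeartbeats 800000

namespace Cfsg.Agent.PSLThree.Two

open Matrix

variable {F : Type*} [Field F] {G : Subgroup (GL (Fin 3) F)}

local notation "GL3" => GL (Fin 3) F
local notation "Mat" => Matrix (Fin 3) (Fin 3) F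
local notation "Sc" => Cfsg.Geo.scalars (Fin 3) F
local notation "PGL2" => Matrix.ProjGenLinGroup (Fin 2) F

/-- `g` is a combination of one and `J` -/
def InSpan (J g : GL (Fin 3) F) : Prop :=
  ∃ α β : F, (g : Matrix (Fin 3) (Fin 3) F) = α • 1 + β • (J : Matrix (Fin 3) (Fin 3) F)

theorem InSpan.commute {J g k : GL3} (h : InSpan J g) (hk : Commute k J) : Commute k g := by
  obtain ⟨α, β, e⟩ := h
  refine Units.ext ?_
  rw [Units.val_mul, Units.val_mul, e, mul_add, add_mul, Matrix.mul_smul, Matrix.mul_smul, Matrix.smul_mul,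
    Matrix.smul_mul, mul_one, one_mul, ← Units.val_mul, hk.eq, Units.val_mul]

theorem InSpan.self (J : GL3) : InSpan J J := ⟨0, 1, by simp⟩

theorem InSpan.conj {J g : GL3} (h : InSpan J g) (T : GL3) : InSpan (T * J * T⁻¹) (T * g * T⁻¹) := by
  obtain ⟨α, β, e⟩ := h
  refine ⟨α, β, ?_⟩
  rw [Units.val_mul, Units.val_mul, e, mul_add, add_mul, Matrix.mul_smul, Matrix.smul_mul, Matrix.mul_smul,
    Matrix.smul_mul, mul_one, Units.mul_inv, Units.val_mul, Units.val_mul]

theorem inSpan_conj_iff {J g : GL3} (T : GL3) : InSpan (T * J * T⁻¹) (T * g * T⁻¹) ↔ InSpan J g :=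
  ⟨fun h => by
    have := h.conj T⁻¹
    simpa [mul_assoc] using this, fun h => h.conj T⟩

/-- in the frame of the involution: trivial on the axis means scalar on the axis -/
theorem inSpan_dJ_iff (h2 : (2 : F) ≠ 0) (g : Subgroup.centralizer ({dJ} : Set GL3)) :
    InSpan dJ (g : GL3) ↔ proj h2 g = 1 := by
  have b := isBlk_of_comm h2 (Subgroup.mem_centralizer_singleton_iff.1 g.2)
  rw [proj_eq_one_iff]
  constructor
  · rintro ⟨α, β, e⟩
    refine ⟨α - β, fun h0 => ?_, ?_⟩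
    · have hd : ((g : GL3) : Mat).det = 0 := by
        rw [e, coe_dJ, sub_eq_zero.1 h0]
        simp [Matrix.det_fin_three]
      exact Matrix.GeneralLinearGroup.det_ne_zero (g : GL3) hd
    · rw [e, coe_dJ]
      ext i j
      fin_cases i <;> fin_cases j <;> simp [low] <;> ring
  · rintro ⟨r, -, e⟩
    refine ⟨(((g : GL3) : Mat) 0 0 + r) / 2, (((g : GL3) : Mat) 0 0 - r) / 2, ?_⟩
    have e11 := congrFun (congrFun e 0) 0; have e12 := congrFun (congrFun e 0) 1
    have e21 := congrFun (congrFun e 1) 0; have e22 := congrFun (congrFun e 1) 1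
    simp [low] at e11 e12 e21 e22
    rw [coe_dJ]
    ext i j
    fin_cases i <;> fin_cases j <;> simp [b.e01, b.e02, b.e10, b.e20, e11, e12, e21, e22] <;> field_simp <;> ring

variable (h2 : (2 : F) ≠ 0) (hG : G ≤ Cfsg.Geo.specialLinear (Fin 3) F)
include h2 hG

/-- the action on the axis of the centraliser of an involution -/
theorem exists_psi [Fintype F] (p : ℕ) [Fact p.Prime] [CharP F p] (hT : ¬ HasTrv G) {J : GL3} (hJ : IsInv G J) :
    ∃ ψ : ↥(Subgroup.centralizer ({((⟨J, hJ.mem⟩ : G) : Bar G)} : Set (Bar G))) →* PGL2,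
      (∀ (k : GL3) (hk : k ∈ G) (x : ↥(Subgroup.centralizer ({((⟨J, hJ.mem⟩ : G) : Bar G)} : Set (Bar G)))),
        ((⟨k, hk⟩ : G) : Bar G) = x → (ψ x = 1 ↔ InSpan J k)) ∧
      (∀ x, orderOf (ψ x) ≠ p) ∧ Cfsg.Agent.Forms.DicksonCount.Coprime' ψ.range := by
  classical
  obtain ⟨T, hT1⟩ := hJ.exists_dJ h2 hG
  set t : Bar G := ((⟨J, hJ.mem⟩ : G) : Bar G) with ht
  set C := Subgroup.centralizer ({t} : Set (Bar G)) with hC
  set π : ↥G →* Bar G := QuotientGroup.mk' _ with hπ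
  set Ĉ := C.comap π with hĈ
  have hcomm : ∀ k : Ĉ, Commute ((k : G) : GL3) J := fun k =>
    commute_inv_lift hG hJ.mem (k : G).2 hJ.sq (Subgroup.mem_centralizer_singleton_iff.1 k.2)
  let η : Ĉ →* Subgroup.centralizer ({dJ} : Set GL3) :=
    ((MulAut.conj T).toMonoidHom.comp (G.subtype.comp Ĉ.subtype)).codRestrict _ fun k => by
      rw [Subgroup.mem_centralizer_singleton_iff, ← hT1]
      exact ((hcomm k).map (MulAut.conj T))
  let f : Ĉ →* C := π.subgroupComap C
  have hf : Function.Surjective f := fun x => by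
    obtain ⟨g, hg⟩ := QuotientGroup.mk'_surjective _ (x : Bar G)
    exact ⟨⟨g, by rw [hĈ, Subgroup.mem_comap, hπ, hg]; exact x.2⟩, Subtype.ext hg⟩
  have hker : f.ker ≤ ((proj h2).comp η).ker := by
    intro k hk
    have h1 : π (k : G) = 1 := congrArg Subtype.val (MonoidHom.mem_ker.1 hk)
    have hs : ((k : G) : GL3) ∈ Sc := (mk_eq_one (hg := (k : G).2)).1 h1
    obtain ⟨c, hc⟩ := (Cfsg.Geo.mem_scalars_iff _).1 hs
    rw [MonoidHom.mem_ker, MonoidHom.comp_apply, ← inSpan_dJ_iff h2]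
    have : InSpan J ((k : G) : GL3) := ⟨c, 0, by rw [hc]; simp⟩
    show InSpan dJ (T * ((k : G) : GL3) * T⁻¹)
    rw [← hT1]
    exact this.conj T
  let ψ : C →* PGL2 := f.liftOfSurjective hf ⟨(proj h2).comp η, hker⟩
  have hψ : ∀ k : Ĉ, ψ (f k) = proj h2 (η k) := fun k =>
    f.liftOfRightInverse_comp_apply _ _ ⟨(proj h2).comp η, hker⟩ k
  have key : ∀ (k : GL3) (hk : k ∈ G) (x : C), ((⟨k, hk⟩ : G) : Bar G) = x →
      ∃ k' : Ĉ, ((k' : G) : GL3) = k ∧ f k' = x := fun k hk x hx =>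
    ⟨⟨⟨k, hk⟩, by rw [hĈ, Subgroup.mem_comap]; show ((⟨k, hk⟩ : G) : Bar G) ∈ C; rw [hx]; exact x.2⟩, rfl, Subtype.ext hx⟩
  have hne : ∀ x, orderOf (ψ x) ≠ p := by
    intro x
    obtain ⟨k, rfl⟩ := hf x
    rw [hψ]
    exact proj_order_ne h2 p (map_conj_le hG T) (conj_noTrv hG hT T) (G := G.map (MulAut.conj T).toMonoidHom)
      (g := T * ((k : G) : GL3) * T⁻¹) ⟨_, (k : G).2, rfl⟩ (η k).2
  refine ⟨ψ, fun k hk x hx => ?_, hne, classify p _ ?_⟩
  · obtain ⟨k', rfl, rfl⟩ := key k hk x hx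
    rw [hψ, ← inSpan_dJ_iff h2]
    show InSpan dJ (T * ((k' : G) : GL3) * T⁻¹) ↔ _
    rw [← hT1]
    exact inSpan_conj_iff T
  · rintro _ ⟨x, rfl⟩
    exact hne x

/-- the part trivial on the axis is cyclic -/
theorem isCyclic_span {J : GL3} (hJ : IsInv G J) (N : Subgroup (Bar G)) [Finite N]
    (hN : ∀ x ∈ N, ∀ (k : GL3) (hk : k ∈ G), ((⟨k, hk⟩ : G) : Bar G) = x → InSpan J k) : IsCyclic N := by
  classical
  obtain ⟨T, hT1⟩ := hJ.exists_dJ h2 hG
  -- the ratio of the two eigenvalues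
  let r : GL3 → F := fun k => ((T * k * T⁻¹ : GL3) : Mat) 0 0 / ((T * k * T⁻¹ : GL3) : Mat) 1 1
  have diag : ∀ k : GL3, InSpan J k → ∃ a b : F, a ≠ 0 ∧ b ≠ 0 ∧
      ((T * k * T⁻¹ : GL3) : Mat) = !![a, 0, 0; 0, b, 0; 0, 0, b] := by
    intro k hk
    obtain ⟨α, β, e⟩ := hT1 ▸ hk.conj T
    have hd := Matrix.GeneralLinearGroup.det_ne_zero (T * k * T⁻¹)
    have e' : ((T * k * T⁻¹ : GL3) : Mat) = !![α + β, 0, 0; 0, α - β, 0; 0, 0, α - β] := by
      rw [e, coe_dJ]; ext i j; fin_cases i <;> fin_cases j <;> simp <;> ring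
    rw [e'] at hd
    simp [Matrix.det_fin_three] at hd
    exact ⟨_, _, hd.1, hd.2, e'⟩
  have rmul : ∀ k l : GL3, InSpan J k → InSpan J l → r (k * l) = r k * r l := by
    intro k l hk hl
    obtain ⟨a, b, -, -, ek⟩ := diag k hk
    obtain ⟨a', b', -, -, el⟩ := diag l hl
    simp only [r]
    rw [← conj_mul, Units.val_mul (T * k * T⁻¹), ek, el]
    simp [Matrix.mul_apply, Fin.sum_univ_three, mul_div_mul_comm, Matrix.vecHead, Matrix.vecTail]
  have rone : ∀ k : GL3, InSpan J k → (r k = 1 ↔ k ∈ Sc) := by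
    intro k hk
    obtain ⟨a, b, ha, hb, ek⟩ := diag k hk
    have : r k = a / b := by simp only [r]; rw [ek]; simp
    rw [this, div_eq_one_iff_eq hb]
    constructor
    · rintro rfl
      refine (Cfsg.Geo.mem_scalars_iff k).2 ⟨Units.mk0 a ha, ?_⟩
      have e : (k : Mat) = ((T⁻¹ : GL3) : Mat) * ((T * k * T⁻¹ : GL3) : Mat) * (T : Mat) := by
        rw [← Units.val_mul, ← Units.val_mul]; simp [mul_assoc]
      rw [e, ek, show (!![a, 0, 0; 0, a, 0; 0, 0, a] : Mat) = a • 1 by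
        ext i j; fin_cases i <;> fin_cases j <;> simp]
      simp
    · intro hs
      obtain ⟨c, hc⟩ := (Cfsg.Geo.mem_scalars_iff k).1 hs
      have e : ((T * k * T⁻¹ : GL3) : Mat) = (c : F) • 1 := by
        rw [Units.val_mul, Units.val_mul, hc]; simp
      rw [ek] at e
      have e0 := congrFun (congrFun e 0) 0; have e1 := congrFun (congrFun e 1) 1
      simp at e0 e1
      rw [e0, e1]
  choose rep hrep hrepx using fun x : N => exists_rep (x : Bar G)
  have hsp : ∀ x : N, InSpan J (rep x) := fun x => hN x x.2 _ _ (hrepx x)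
  have well : ∀ (x : N) (k : GL3) (hk : k ∈ G), ((⟨k, hk⟩ : G) : Bar G) = x → r k = r (rep x) := by
    intro x k hk hx
    have hs : (rep x)⁻¹ * k ∈ Sc := (mk_eq (hg := hrep x) (hh := hk)).1 ((hrepx x).trans hx.symm)
    have hsp' : InSpan J ((rep x)⁻¹ * k) := by
      obtain ⟨c, hc⟩ := (Cfsg.Geo.mem_scalars_iff _).1 hs
      exact ⟨c, 0, by rw [hc]; simp⟩
    have h := rmul _ _ (hsp x) hsp'
    rwa [mul_inv_cancel_left, (rone _ hsp').2 hs, mul_one] at h
  let φ : N →* F :=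
    { toFun := fun x => r (rep x)
      map_one' := by
        rw [← well 1 1 G.one_mem rfl]
        exact (rone 1 ⟨1, 0, by simp⟩).2 (one_mem _)
      map_mul' := fun x y => by
        rw [← well (x * y) (rep x * rep y) (mul_mem (hrep x) (hrep y))
          (by rw [show (⟨rep x * rep y, mul_mem (hrep x) (hrep y)⟩ : G) = ⟨rep x, hrep x⟩ * ⟨rep y, hrep y⟩ from rfl,
            QuotientGroup.mk_mul, hrepx, hrepx]; rfl)]
        exact rmul _ _ (hsp x) (hsp y) }
  refine isCyclic_of_injective_ringHom φ ((injective_iff_map_eq_one φ).2 fun x hx => ?_)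
  refine Subtype.ext ?_
  rw [← hrepx x]
  exact (mk_eq_one (hg := hrep x)).2 ((rone _ (hsp x)).1 hx)

/-- a combination of one and each of two commuting involutions is scalar -/
theorem scalar_of_two_spans {J S k : GL3} (hJ : IsInv G J) (hS : IsInv G S) (hc : Commute J S) (hne : J ≠ S)
    (h1 : InSpan J k) (h1' : InSpan S k) : k ∈ Sc := by
  obtain ⟨T, eJ, eS⟩ := hJ.exists_joint h2 hG hS hc hne
  obtain ⟨α, β, e⟩ := eJ ▸ h1.conj T
  obtain ⟨γ, δ, e'⟩ := eS ▸ h1'.conj T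
  rw [e, coe_dJ, coe_dK] at e'
  have q00 := congrFun (congrFun e' 0) 0; have q11 := congrFun (congrFun e' 1) 1
  have q22 := congrFun (congrFun e' 2) 2
  simp at q00 q11 q22
  have hβ : β = 0 := (mul_eq_zero.1 (show (2 : F) * β = 0 by linear_combination q00 - q22)).resolve_left h2
  rw [hβ, zero_smul, add_zero] at e
  have e2 : (k : Mat) = α • 1 := by
    have e3 : (k : Mat) = ((T⁻¹ : GL3) : Mat) * ((T * k * T⁻¹ : GL3) : Mat) * (T : Mat) := by
      rw [← Units.val_mul, ← Units.val_mul]; simp [mul_assoc]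
    rw [e3, e]; simp
  refine (Cfsg.Geo.mem_scalars_iff k).2 ⟨Units.mk0 α fun h => ?_, by simpa using e2⟩
  exact Matrix.GeneralLinearGroup.det_ne_zero k (by rw [e2, h]; simp)

/-- a combination whose square is projectively the involution is a half homology -/
theorem half_of_square {J k : GL3} (hJ : IsInv G J) (h : InSpan J k) (hk : k * k * J⁻¹ ∈ Sc) :
    ∃ c ι : F, c ≠ 0 ∧ ι * ι = -1 ∧ (k : Mat) = c • (1 + ι • (J : Mat)) := by
  obtain ⟨T, hT1⟩ := hJ.exists_dJ h2 hG
  obtain ⟨α, β, e⟩ := h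
  obtain ⟨μ, hμ⟩ := (Cfsg.Geo.mem_scalars_iff _).1 hk
  have hsq : (k : Mat) * (k : Mat) = (μ : F) • (J : Mat) := by
    have := congrArg (fun M : Mat => M * (J : Mat)) hμ
    simpa using this
  obtain ⟨α', β', e'⟩ : ∃ α' β' : F, α' = α ∧ β' = β := ⟨_, _, rfl, rfl⟩
  have eT : ((T * k * T⁻¹ : GL3) : Mat) = α • 1 + β • ((dJ : GL3) : Mat) := by
    rw [← hT1, Units.val_mul, Units.val_mul, e, mul_add, add_mul, Matrix.mul_smul, Matrix.smul_mul,
      Matrix.mul_smul, Matrix.smul_mul, mul_one, Units.mul_inv, Units.val_mul, Units.val_mul]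
  have sT : ((T * k * T⁻¹ : GL3) : Mat) * ((T * k * T⁻¹ : GL3) : Mat) = (μ : F) • ((dJ : GL3) : Mat) := by
    rw [← hT1, ← Units.val_mul, conj_mul, Units.val_mul, Units.val_mul, Units.val_mul k, hsq, Matrix.mul_smul,
      Matrix.smul_mul, Units.val_mul, Units.val_mul]
  rw [eT, coe_dJ] at sT
  have q00 := congrFun (congrFun sT 0) 0; have q11 := congrFun (congrFun sT 1) 1
  simp [Matrix.mul_apply, Fin.sum_univ_three] at q00 q11
  have h1 : α * α + β * β = 0 :=
    (mul_eq_zero.1 (show (2 : F) * (α * α + β * β) = 0 by linear_combination q00 + q11)).resolve_left h2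
  have hα : α ≠ 0 := fun h0 => μ.ne_zero (by
    rw [h0] at h1 q00
    linear_combination -q00 + h1)
  refine ⟨α, β / α, hα, ?_, ?_⟩
  · field_simp
    linear_combination h1
  · rw [e, smul_add, smul_smul, mul_div_cancel₀ _ hα]

end Cfsg.Agent.PSLThree.Two
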