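import Cfsg.Agent.Lib.PSLThree.Two.Invol

/-!
# No elementary group of order nine normalised by a four group acting by reflections
-/

set_option autoImplicit false
set_option linter.unusedSectionVars false
set_option linter.unusedSimpArgs false
set_option linter.style.haveILetI false
set_option maxHeartbeats 800000

namespace Cfsg.Agent.PSLThree.Two

open Matrix

variable {F : Type*} [Field F]

local notation "Mat" => Matrix (Fin 3) (Fin 3) F

theorem smul_one_entries (c : F) : (c • (1 : Mat)) = !![c, 0, 0; 0, c, 0; 0, 0, c] := by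
  ext i j; fin_cases i <;> fin_cases j <;> simp

/-- the matrix statement -/
theorem det_three_matrix (h3 : (3 : F) ≠ 0) (E f : Mat) (hdE : E.det = 1)
    (hE : E 0 1 = 0 ∧ E 0 2 = 0 ∧ E 1 0 = 0 ∧ E 2 0 = 0)
    (hf : f 0 2 = 0 ∧ f 1 2 = 0 ∧ f 2 0 = 0 ∧ f 2 1 = 0) (hc : E * f = f * E)
    (hEK : ∃ c : F, E * !![-1, 0, 0; 0, 1, 0; 0, 0, -1] * E * !![-1, 0, 0; 0, 1, 0; 0, 0, -1] = c • 1)
    (hfJ : ∃ d : F, f * !![1, 0, 0; 0, -1, 0; 0, 0, -1] * f * !![1, 0, 0; 0, -1, 0; 0, 0, -1] = d • 1)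
    (hE3 : ∃ ν : F, E * (E * E) = ν • 1) (hE2 : ∀ c : F, E * E ≠ c • 1) (hf2 : ∀ c : F, f * f ≠ c • 1) : False := by
  obtain ⟨a, b, c, d, e, hEe⟩ : ∃ a b c d e : F, E = !![a, 0, 0; 0, b, c; 0, d, e] :=
    ⟨_, _, _, _, _, by rw [Matrix.eta_fin_three E, hE.1, hE.2.1, hE.2.2.1, hE.2.2.2]⟩
  obtain ⟨g00, g01, g10, g11, g22, hfe⟩ : ∃ g00 g01 g10 g11 g22 : F, f = !![g00, g01, 0; g10, g11, 0; 0, 0, g22] :=
    ⟨_, _, _, _, _, by rw [Matrix.eta_fin_three f, hf.1, hf.2.1, hf.2.2.1, hf.2.2.2]⟩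
  subst hEe hfe
  obtain ⟨k, hk⟩ := hEK
  obtain ⟨m, hm⟩ := hfJ
  obtain ⟨ν, hν⟩ := hE3
  rw [smul_one_entries] at hk hm hν
  have k00 := congrFun (congrFun hk 0) 0; have k11 := congrFun (congrFun hk 1) 1
  have k12 := congrFun (congrFun hk 1) 2; have k21 := congrFun (congrFun hk 2) 1
  have k22 := congrFun (congrFun hk 2) 2
  simp [Matrix.mul_apply, Fin.sum_univ_three] at k00 k11 k12 k21 k22
  have m00 := congrFun (congrFun hm 0) 0; have m11 := congrFun (congrFun hm 1) 1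
  have m22 := congrFun (congrFun hm 2) 2
  simp [Matrix.mul_apply, Fin.sum_univ_three] at m00 m11 m22
  have c01 := congrFun (congrFun hc 0) 1; have c10 := congrFun (congrFun hc 1) 0
  simp [Matrix.mul_apply, Fin.sum_univ_three] at c01 c10
  simp [Matrix.det_fin_three] at hdE
  by_cases hg : g01 = 0 ∧ g10 = 0
  · -- a diagonal inverted element squares to a scalar
    obtain ⟨h01, h10⟩ := hg
    subst h01 h10
    refine hf2 m ?_
    rw [smul_one_entries]
    ext i j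
    fin_cases i <;> fin_cases j <;> simp [Matrix.mul_apply, Fin.sum_univ_three] <;> grind
  · have hba : b = a := by
      rcases not_and_or.1 hg with h | h
      · exact mul_left_cancel₀ h (by linear_combination -c01)
      · exact mul_left_cancel₀ h (by linear_combination c10)
    subst hba
    have hcd : c * d = 0 := by linear_combination k00 - k11
    have n12 := congrFun (congrFun hν 1) 2; have n21 := congrFun (congrFun hν 2) 1
    simp [Matrix.mul_apply, Fin.sum_univ_three] at n12 n21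
    by_cases he : e = b
    · subst he
      have ha : e ≠ 0 := by rintro rfl; simp at hdE
      have h3e : (3 : F) * (e * e) ≠ 0 := mul_ne_zero h3 (mul_ne_zero ha ha)
      have hc0 : c = 0 := (mul_eq_zero.1 (show (3 : F) * (e * e) * c = 0 by
        linear_combination n12 - c * hcd)).resolve_left h3e
      have hd0 : d = 0 := (mul_eq_zero.1 (show (3 : F) * (e * e) * d = 0 by
        linear_combination n21 - d * hcd)).resolve_left h3e
      refine hE2 (e * e) ?_
      rw [smul_one_entries]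
      ext i j
      fin_cases i <;> fin_cases j <;> simp [Matrix.mul_apply, Fin.sum_univ_three, hc0, hd0]
    · have hne : e - b ≠ 0 := sub_ne_zero.2 he
      have hc0 : c = 0 := (mul_eq_zero.1 (show (e - b) * c = 0 by linear_combination k12)).resolve_left hne
      have hd0 : d = 0 := (mul_eq_zero.1 (show (e - b) * d = 0 by linear_combination -k21)).resolve_left hne
      refine hE2 (b * b) ?_
      rw [smul_one_entries]
      ext i j
      fin_cases i <;> fin_cases j <;> simp [Matrix.mul_apply, Fin.sum_univ_three, hc0, hd0] <;> grind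

variable {G : Subgroup (GL (Fin 3) F)}

local notation "GL3" => GL (Fin 3) F
local notation "Sc" => Cfsg.Geo.scalars (Fin 3) F

theorem scalar_conj {x : GL3} (hx : x ∈ Sc) (T : GL3) : ∃ c : F, ((T * x * T⁻¹ : GL3) : Mat) = c • 1 := by
  obtain ⟨c, hc⟩ := (Cfsg.Geo.mem_scalars_iff x).1 hx
  exact ⟨c, by rw [Units.val_mul, Units.val_mul, hc]; simp⟩

/-- there is no pair of commuting elements of order three reflected by a four group -/
theorem det_three (h2 : (2 : F) ≠ 0) (h3 : (3 : F) ≠ 0) (hG : G ≤ Cfsg.Geo.specialLinear (Fin 3) F)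
    {e f t a : Bar G} (ht : orderOf t = 2) (ha : orderOf a = 2) (hta : Commute t a) (hne : t ≠ a)
    (he : orderOf e = 3) (hf : orderOf f = 3) (hef : Commute e f) (hte : t * e * t⁻¹ = e⁻¹)
    (htf : t * f * t⁻¹ = f⁻¹) (hae : a * e * a⁻¹ = e) (haf : a * f * a⁻¹ = f⁻¹) : False := by
  have lift : ∀ x : Bar G, orderOf x = 2 → ∃ J, ∃ hJ : IsInv G J, ((⟨J, hJ.mem⟩ : G) : Bar G) = x := by
    intro x hx
    obtain ⟨J, hJ, hsq, e⟩ := exists_inv_lift hG (x := x) (by rw [← pow_two, ← hx, pow_orderOf_eq_one])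
    exact ⟨J, ⟨hJ, hsq, fun h1 => by subst h1; rw [show x = 1 from e.symm, orderOf_one] at hx; norm_num at hx⟩, e⟩
  obtain ⟨J, hJ, eJ⟩ := lift t ht
  obtain ⟨A, hA, eA⟩ := lift a ha
  obtain ⟨E, hE, eE⟩ := exists_rep e
  obtain ⟨W, hW, eW⟩ := exists_rep f
  have mkm : ∀ {x y : GL3} (hx : x ∈ G) (hy : y ∈ G),
      ((⟨x * y, mul_mem hx hy⟩ : G) : Bar G) = ((⟨x, hx⟩ : G) : Bar G) * ((⟨y, hy⟩ : G) : Bar G) :=
    fun hx hy => QuotientGroup.mk_mul _ (⟨_, hx⟩ : G) ⟨_, hy⟩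
  have cEA : Commute E A := commute_inv_lift hG hA.mem hE hA.sq (by
    rw [eE, eA]; exact (mul_inv_eq_iff_eq_mul.1 hae).symm)
  have hAJ : Commute A J := commute_inv_lift hG hJ.mem hA.mem hJ.sq (by rw [eA, eJ]; exact hta.symm)
  have hne' : A ≠ J := fun h => hne (by subst h; exact eJ.symm.trans eA)
  have cWL : Commute W (A * J) := commute_inv_lift hG (mul_mem hA.mem hJ.mem) hW (hA.mul hJ hAJ hne').sq (by
    rw [mkm hA.mem hJ.mem, eW, eA, eJ]
    show f * (a * t) = a * t * f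
    have h1 : a * t * f * (a * t)⁻¹ = f := by
      calc a * t * f * (a * t)⁻¹ = a * (t * f * t⁻¹) * a⁻¹ := by group
        _ = (a * f * a⁻¹)⁻¹ := by rw [htf]; group
        _ = f := by rw [haf, inv_inv]
    exact (mul_inv_eq_iff_eq_mul.1 h1).symm)
  have sc : ∀ {x y : GL3} (hx : x ∈ G) (hy : y ∈ G), y * y = 1 →
      ((⟨y, hy⟩ : G) : Bar G) * ((⟨x, hx⟩ : G) : Bar G) * ((⟨y, hy⟩ : G) : Bar G)⁻¹ = ((⟨x, hx⟩ : G) : Bar G)⁻¹ →
      x * y * x * y ∈ Sc := by
    intro x y hx hy hyy h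
    have hy' : ((⟨y, hy⟩ : G) : Bar G)⁻¹ = ((⟨y, hy⟩ : G) : Bar G) := inv_eq_of_mul_eq_one_right (by
      rw [← mkm hy hy]; exact (mk_eq_one (hg := mul_mem hy hy)).2 (by rw [hyy]; exact one_mem _))
    refine (mk_eq_one (hg := mul_mem (mul_mem (mul_mem hx hy) hx) hy)).1 ?_
    rw [mkm (mul_mem (mul_mem hx hy) hx) hy, mkm (mul_mem hx hy) hx, mkm hx hy]
    rw [hy'] at h
    rw [mul_assoc, mul_assoc, ← mul_assoc ((⟨y, hy⟩ : G) : Bar G), h, mul_inv_cancel]
  have sEJ := sc hE hJ.mem hJ.sq (by rw [eE, eJ]; exact hte)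
  have sWA := sc hW hA.mem hA.sq (by rw [eW, eA]; exact haf)
  -- the lifts commute
  have hμ : E * W * E⁻¹ * W⁻¹ ∈ Sc := by
    refine (mk_eq_one (hg := mul_mem (mul_mem (mul_mem hE hW) (inv_mem hE)) (inv_mem hW))).1 ?_
    rw [mkm (mul_mem (mul_mem hE hW) (inv_mem hE)) (inv_mem hW), mkm (mul_mem hE hW) (inv_mem hE), mkm hE hW,
      show (⟨E⁻¹, inv_mem hE⟩ : G) = (⟨E, hE⟩ : G)⁻¹ from rfl, show (⟨W⁻¹, inv_mem hW⟩ : G) = (⟨W, hW⟩ : G)⁻¹ from rfl,
      QuotientGroup.mk_inv, QuotientGroup.mk_inv, eE, eW, hef.eq, mul_inv_cancel_right, mul_inv_cancel]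
  set z := E * W * E⁻¹ * W⁻¹ with hz
  set w := W * A * W * A with hw
  have hzG : z ∈ G := mul_mem (mul_mem (mul_mem hE hW) (inv_mem hE)) (inv_mem hW)
  have hAi : A⁻¹ = A := inv_eq_of_mul_eq_one_right hA.sq
  have h1 : A * E * A⁻¹ = E := by rw [cEA.symm.eq, mul_inv_cancel_right]
  have h2' : A * W * A⁻¹ = w * W⁻¹ := by
    rw [← (scalar_comm sWA W⁻¹).eq.symm, hw, hAi]; group
  have e1 : E * W = z * W * E := by rw [hz]; group
  have e2 : E * W⁻¹ = z * W⁻¹ * E := by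
    have h' := congrArg (fun x => A * x * A⁻¹) e1
    have hzA : A * z * A⁻¹ = z := by rw [(scalar_comm hμ A).symm.eq, mul_inv_cancel_right]
    have lhs : A * (E * W) * A⁻¹ = w * (E * W⁻¹) := by
      rw [← conj_mul, h1, h2', ← mul_assoc, (scalar_comm sWA E).symm.eq, mul_assoc]
    have rhs : A * (z * W * E) * A⁻¹ = w * (z * W⁻¹ * E) := by
      rw [← conj_mul, ← conj_mul, h1, h2', hzA, ← mul_assoc z, ← (scalar_comm sWA z).eq]
      simp only [mul_assoc]
    rw [lhs, rhs] at h'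
    exact mul_left_cancel h'
  have hz2 : z ^ 2 = 1 := by
    have e3 : E = z * (z * E) := by
      calc E = (E * W⁻¹) * W := by group
        _ = z * W⁻¹ * (E * W) := by rw [e2]; group
        _ = z * W⁻¹ * (z * W * E) := by rw [e1]
        _ = z * (z * (W⁻¹ * W) * E) := by
          rw [mul_assoc z W⁻¹, mul_assoc z W E, ← mul_assoc W⁻¹ z, ← (scalar_comm hμ W⁻¹).eq]; group
        _ = z * (z * E) := by group
    rw [pow_two, ← mul_eq_right (b := E), mul_assoc]; exact e3.symm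
  have hEW : Commute E W := by
    have : z = 1 := scalar_eq_one hG (n := 2) (by norm_num) hzG hμ hz2
    show E * W = W * E
    rw [e1, this, one_mul]
  -- the frame
  obtain ⟨T, eTA, eTJ⟩ := hA.exists_joint h2 hG hJ hAJ hne'
  have bE := isBlk_of_comm h2 (g := T * E * T⁻¹) (by rw [← eTA]; exact cEA.map (MulAut.conj T))
  have bW : Commute (T * W * T⁻¹) (dJ * dK) := by
    rw [← eTA, ← eTJ, conj_mul]; exact cWL.map (MulAut.conj T)
  have eW' : ((T * W * T⁻¹ : GL3) : Mat) * ((dJ : GL3) * (dK : GL3) : Mat) =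
      ((dJ : GL3) * (dK : GL3) : Mat) * ((T * W * T⁻¹ : GL3) : Mat) := by
    rw [← Units.val_mul, ← Units.val_mul, bW.eq, Units.val_mul, Units.val_mul]
  have not2 : ∀ {x : GL3} (hx : x ∈ G), orderOf ((⟨x, hx⟩ : G) : Bar G) = 3 →
      ∀ c : F, ((T * x * T⁻¹ : GL3) : Mat) * ((T * x * T⁻¹ : GL3) : Mat) ≠ c • 1 := by
    intro x hx h c e'
    have e2 : ((x * x : GL3) : Mat) = c • 1 := by
      have e3 : (x * x : GL3) = T⁻¹ * ((T * x * T⁻¹) * (T * x * T⁻¹)) * T := by group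
      rw [e3, Units.val_mul, Units.val_mul, Units.val_mul (T * x * T⁻¹), e']
      simp
    have hs : x * x ∈ Sc := (Cfsg.Geo.mem_scalars_iff _).2 ⟨Units.mk0 c (fun h0 =>
      Matrix.GeneralLinearGroup.det_ne_zero (x * x) (by rw [e2, h0]; simp)), by simpa using e2⟩
    have := orderOf_dvd_of_pow_eq_one (x := ((⟨x, hx⟩ : G) : Bar G)) (n := 2) (by
      rw [pow_two, ← mkm hx hx]; exact (mk_eq_one (hg := mul_mem hx hx)).2 hs)
    rw [h] at this
    norm_num at this
  have hE3 : E * (E * E) ∈ Sc := (mk_eq_one (hg := mul_mem hE (mul_mem hE hE))).1 (by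
    rw [mkm hE (mul_mem hE hE), mkm hE hE, eE, ← pow_three]
    exact orderOf_dvd_iff_pow_eq_one.1 (dvd_of_eq he))
  obtain ⟨c1, hc1⟩ := scalar_conj sEJ T
  obtain ⟨c2, hc2⟩ := scalar_conj sWA T
  obtain ⟨c3, hc3⟩ := scalar_conj hE3 T
  refine det_three_matrix h3 ((T * E * T⁻¹ : GL3) : Mat) ((T * W * T⁻¹ : GL3) : Mat) ?_
    ⟨bE.e01, bE.e02, bE.e10, bE.e20⟩ ?_ ?_ ⟨c1, ?_⟩ ⟨c2, ?_⟩ ⟨c3, ?_⟩ (not2 hE (eE ▸ he)) (not2 hW (eW ▸ hf))
  · rw [Units.val_mul, Units.val_mul, Matrix.det_units_conj, det_eq_one hG hE]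
  · rw [coe_dJ, coe_dK] at eW'
    generalize ((T * W * T⁻¹ : GL3) : Mat) = M at eW' ⊢
    have h02 := congrFun (congrFun eW' 0) 2; have h12 := congrFun (congrFun eW' 1) 2
    have h20 := congrFun (congrFun eW' 2) 0; have h21 := congrFun (congrFun eW' 2) 1
    simp [Matrix.mul_apply, Fin.sum_univ_three] at h02 h12 h20 h21
    refine ⟨?_, ?_, ?_, ?_⟩
    · exact (mul_eq_zero.1 (show (2 : F) * M 0 2 = 0 by linear_combination h02)).resolve_left h2
    · exact (mul_eq_zero.1 (show (2 : F) * M 1 2 = 0 by linear_combination h12)).resolve_left h2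
    · exact (mul_eq_zero.1 (show (2 : F) * M 2 0 = 0 by linear_combination -h20)).resolve_left h2
    · exact (mul_eq_zero.1 (show (2 : F) * M 2 1 = 0 by linear_combination -h21)).resolve_left h2
  · rw [← Units.val_mul, ← Units.val_mul, conj_mul, conj_mul, hEW.eq]
  · rw [← coe_dK, ← eTJ, ← Units.val_mul, ← Units.val_mul, ← Units.val_mul, conj_mul, conj_mul, conj_mul]; exact hc1
  · rw [← coe_dJ, ← eTA, ← Units.val_mul, ← Units.val_mul, ← Units.val_mul, conj_mul, conj_mul, conj_mul]; exact hc2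
  · rw [← Units.val_mul, ← Units.val_mul, conj_mul, conj_mul]; exact hc3

end Cfsg.Agent.PSLThree.Two
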