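import Cfsg.Agent.Lib.Forms.DicksonPGL.Basic
import Cfsg.Agent.Lib.Forms.DicksonList

/-!
# Subgroups of `PGL₂(q)` of order prime to the characteristic
-/

set_option autoImplicit false
set_option linter.unusedSectionVars false
set_option linter.style.haveILetI false

namespace Cfsg.Agent.PSLThree.Two

open Matrix
open Cfsg.Agent.Forms Cfsg.Agent.Forms.DicksonCount

theorem coprime'_congr {G H : Type*} [Group G] [Group H] (e : G ≃* H) (h : Coprime' H) : Coprime' G := by
  rcases h with h | ⟨c, hc, ⟨d⟩⟩ | ⟨⟨d⟩⟩ | ⟨⟨d⟩⟩ | ⟨⟨d⟩⟩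
  · exact Or.inl (isCyclic_of_surjective e.symm.toMonoidHom e.symm.surjective)
  · refine Or.inr (Or.inl ⟨e.symm c, fun he => hc (e.symm.injective (by rw [he, map_one])), ?_⟩)
    rw [MulEquiv.orderOf_eq]
    exact ⟨e.trans d⟩
  · exact Or.inr (Or.inr (Or.inl ⟨e.trans d⟩))
  · exact Or.inr (Or.inr (Or.inr (Or.inl ⟨e.trans d⟩)))
  · exact Or.inr (Or.inr (Or.inr (Or.inr ⟨e.trans d⟩)))

variable {F : Type*} [Field F] [Fintype F] (p : ℕ) [Fact p.Prime] [CharP F p]

/-- the list of Klein and Dickson -/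
theorem classify (X : Subgroup (Matrix.ProjGenLinGroup (Fin 2) F)) (hX : ∀ x ∈ X, orderOf x ≠ p) :
    Coprime' X := by
  classical
  let E := FiniteField.Extension F p 2
  letI : Fintype E := Fintype.ofFinite E
  set f : F →+* E := algebraMap F E with hf
  haveI : CharP E p := (f.charP_iff f.injective p).1 inferInstance
  have hcard : Fintype.card F ^ 2 = Fintype.card E := by
    rw [← Nat.card_eq_fintype_card, ← Nat.card_eq_fintype_card, FiniteField.natCard_extension]
  set j := Matrix.ProjectiveSpecialLinearGroup.toPGL (n := Fin 2) (R := E)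
  set g := DicksonField.pglMap f with hg
  have hle : X.map g ≤ j.range := by
    rintro _ ⟨x, -, rfl⟩
    obtain ⟨A, rfl⟩ := Matrix.ProjGenLinGroup.mk_surjective x
    rw [hg, DicksonField.pglMap_mk]
    refine DicksonPGL.mk_mem_L.2 ?_
    have e : (GeneralLinearGroup.map f A : Matrix (Fin 2) (Fin 2) E).det =
        f (A : Matrix (Fin 2) (Fin 2) F).det := (f.map_det _).symm
    rw [e]
    exact DicksonPGL.isSquare_map_of_even f hcard even_two _
  set X' := (X.map g).comap j with hX'
  have hj : Function.Injective j := Matrix.ProjectiveSpecialLinearGroup.toPGL_injective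
  have hg1 : Function.Injective g := DicksonField.pglMap_injective f
  have e : X ≃* X' := (X.equivMapOfInjective g hg1).trans
    ((MulEquiv.subgroupCongr (Subgroup.map_comap_eq_self hle).symm).trans
      (X'.equivMapOfInjective j hj).symm)
  refine coprime'_congr e (DicksonCount.classify_coprime ((DicksonAction.twoPt (F := E) p).subgroup X')
    fun x => ?_)
  rw [← e.symm.orderOf_eq, ← Subgroup.orderOf_coe]
  exact hX _ (e.symm x).2

omit [Fact p.Prime] [CharP F p]

theorem sq_commute_perm : ∀ x y : Equiv.Perm (Fin 4), x ^ 4 = 1 → x ^ 2 ≠ 1 → y ^ 4 = 1 → y ^ 2 ≠ 1 →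
    x ^ 2 * y ^ 2 = y ^ 2 * x ^ 2 := by decide +kernel

theorem alt_four_no_four : ∀ x : alternatingGroup (Fin 4), x ^ 4 = 1 → x ^ 2 = 1 := by decide +kernel

theorem alt_five_no_four : ∀ x : alternatingGroup (Fin 5), x ^ 4 = 1 → x ^ 2 = 1 := by decide +kernel

/-- squares of elements of order four commute -/
theorem sq_commute {G : Type*} [Group G] (hG : Coprime' G) {x y : G} (hx : orderOf x = 4)
    (hy : orderOf y = 4) : Commute (x ^ 2) (y ^ 2) := by
  have h4 : ∀ {z : G}, orderOf z = 4 → z ^ 4 = 1 ∧ z ^ 2 ≠ 1 := fun {z} h =>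
    ⟨h ▸ pow_orderOf_eq_one z, fun e => by
      have := orderOf_dvd_of_pow_eq_one e
      rw [h] at this
      norm_num at this⟩
  obtain ⟨hx1, hx2⟩ := h4 hx
  obtain ⟨hy1, hy2⟩ := h4 hy
  rcases hG with h | ⟨c, -, ⟨d⟩⟩ | ⟨⟨d⟩⟩ | ⟨⟨d⟩⟩ | ⟨⟨d⟩⟩
  · haveI := h
    letI := IsCyclic.commGroup (α := G)
    exact mul_comm _ _
  · have key : ∀ {z : G}, z ^ 2 ≠ 1 → ∃ i : ZMod (orderOf c), d z = DihedralGroup.r i := fun {z} hz => by
      rcases e : d z with i | i
      · exact ⟨i, rfl⟩
      · refine absurd (d.injective ?_) hz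
        rw [map_pow, e, pow_two, DihedralGroup.sr_mul_self, map_one]
    obtain ⟨i, hi⟩ := key hx2
    obtain ⟨k, hk⟩ := key hy2
    refine d.injective ?_
    simp only [map_mul, map_pow, hi, hk, pow_two, DihedralGroup.r_mul_r]
    congr 1
    abel
  · exact absurd (d.injective (by rw [map_pow, map_one, alt_four_no_four (d x) (by rw [← map_pow, hx1, map_one])])) hx2
  · refine d.injective ?_
    simp only [map_mul, map_pow]
    exact sq_commute_perm _ _ (by rw [← map_pow, hx1, map_one])
      (fun e => hx2 (d.injective (by rw [map_pow, e, map_one]))) (by rw [← map_pow, hy1, map_one])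
      (fun e => hy2 (d.injective (by rw [map_pow, e, map_one])))
  · exact absurd (d.injective (by rw [map_pow, map_one, alt_five_no_four (d x) (by rw [← map_pow, hx1, map_one])])) hx2

theorem perm_four_small : ∀ x : Equiv.Perm (Fin 4), x ^ 4 = 1 ∨ x ^ 3 = 1 := by decide +kernel

/-- a group on the list with a perfect-like normal part of even order and a large two-subgroup is `S₄` -/
theorem eq_perm_four {G : Type*} [Group G] [Finite G] (hG : Coprime' G) (K : Subgroup G)
    (h2 : 2 ∣ Nat.card K) (hK : ∀ M : Subgroup K, M.index ≠ 2) (R : Subgroup G) (hR : IsPGroup 2 R)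
    (h8 : 8 ≤ Nat.card R) :
    Nonempty (G ≃* Equiv.Perm (Fin 4)) ∧ Nat.card R = 8 := by
  obtain ⟨k, hk⟩ := IsPGroup.iff_card.1 hR
  have hk3 : 3 ≤ k := by
    by_contra hc
    have := Nat.pow_le_pow_right two_pos (show k ≤ 2 by omega)
    omega
  have h8d : 8 ∣ Nat.card G := ((pow_dvd_pow 2 hk3).trans (hk ▸ dvd_rfl)).trans R.card_subgroup_dvd_card
  have hcyc : IsCyclic K → False := fun hc => by
    haveI := hc
    obtain ⟨g, hg⟩ := IsCyclic.exists_generator (α := K)
    have ho : orderOf g = Nat.card K := orderOf_eq_card_of_forall_mem_zpowers hg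
    refine hK (Subgroup.zpowers (g ^ 2)) ?_
    have h1 := (Subgroup.zpowers (g ^ 2)).card_mul_index
    rw [Nat.card_zpowers, orderOf_pow' g two_ne_zero, ho, Nat.gcd_eq_right h2] at h1
    obtain ⟨m, hm⟩ := h2
    have h0 : 0 < Nat.card K := Nat.card_pos
    rw [hm, Nat.mul_div_cancel_left _ two_pos] at h1
    exact Nat.eq_of_mul_eq_mul_left (show 0 < m by omega) (h1.trans (mul_comm 2 m))
  rcases hG with h | ⟨c, -, ⟨d⟩⟩ | ⟨⟨d⟩⟩ | ⟨⟨d⟩⟩ | ⟨⟨d⟩⟩
  · haveI := h
    exact (hcyc inferInstance).elim
  · exfalso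
    let rot : Subgroup (DihedralGroup (orderOf c)) := Subgroup.zpowers (DihedralGroup.r 1)
    haveI : NeZero (orderOf c) := ⟨(orderOf_pos c).ne'⟩
    have hrot : rot.index = 2 := by
      have h1 := rot.card_mul_index
      rw [Nat.card_zpowers, DihedralGroup.orderOf_r_one, DihedralGroup.nat_card] at h1
      exact Nat.eq_of_mul_eq_mul_left (orderOf_pos c) (h1.trans (mul_comm 2 _))
    set M := (rot.comap d.toMonoidHom).subgroupOf K with hM
    have hd : M.index ∣ 2 := by
      haveI : rot.Normal := Subgroup.normal_of_index_eq_two hrot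
      rw [← hrot, ← rot.index_comap_of_surjective (f := d.toMonoidHom) d.surjective]
      exact Subgroup.relIndex_dvd_index_of_normal _ K
    rcases (Nat.dvd_prime Nat.prime_two).1 hd with e | e
    · have hle : K ≤ rot.comap d.toMonoidHom := Subgroup.relIndex_eq_one.1 e
      refine hcyc ?_
      let φ : K →* rot := (d.toMonoidHom.comp K.subtype).codRestrict rot fun x => hle x.2
      exact isCyclic_of_injective φ fun a b h => Subtype.ext (d.injective (congrArg Subtype.val h))
    · exact hK M e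
  · rw [Nat.card_congr d.toEquiv, Nat.card_eq_fintype_card] at h8d
    exfalso; revert h8d; decide
  · refine ⟨⟨d⟩, ?_⟩
    have h24 : Nat.card G = 24 := by
      rw [Nat.card_congr d.toEquiv, Nat.card_eq_fintype_card]; rfl
    have hd24 := R.card_subgroup_dvd_card
    rw [h24, hk] at hd24
    have : k ≤ 3 := by
      by_contra hc
      have := (pow_dvd_pow 2 (show 4 ≤ k by omega)).trans hd24
      norm_num at this
    rw [hk, show k = 3 by omega]; rfl
  · rw [Nat.card_congr d.toEquiv, Nat.card_eq_fintype_card] at h8d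
    exfalso; revert h8d; decide

end Cfsg.Agent.PSLThree.Two
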