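import Cfsg.Agent.Lib.PSLThree.Basic.Homology
import Cfsg.Agent.Lib.PSLThree.Two.List
import Cfsg.Agent.Lib.Forms.Max.SL3.SympType.Cent

/-!
# Groups without transvections seen in the frame of an involution

`dJ = diag(1,-1,-1)`; its centraliser acts projectively on the axis through `proj`.
-/

set_option autoImplicit false
set_option linter.unusedSectionVars false
set_option linter.style.haveILetI false

namespace Cfsg.Agent.PSLThree.Two

open Matrix
open Cfsg.Agent.Forms.Max.SL3.Singer (Tr)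

variable {F : Type*} [Field F]

local notation "GL3" => GL (Fin 3) F
local notation "Mat" => Matrix (Fin 3) (Fin 3) F
local notation "M2" => Matrix (Fin 2) (Fin 2) F

/-- `diag(1,-1,-1)` -/
def dJ : GL (Fin 3) F :=
  ⟨!![1, 0, 0; 0, -1, 0; 0, 0, -1], !![1, 0, 0; 0, -1, 0; 0, 0, -1],
    by ext i j; fin_cases i <;> fin_cases j <;> simp [Matrix.mul_apply, Fin.sum_univ_three],
    by ext i j; fin_cases i <;> fin_cases j <;> simp [Matrix.mul_apply, Fin.sum_univ_three]⟩

theorem coe_dJ : ((dJ : GL3) : Mat) = !![1, 0, 0; 0, -1, 0; 0, 0, -1] := rfl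

/-- the four off-block entries vanish -/
structure IsBlk (M : Matrix (Fin 3) (Fin 3) F) : Prop where
  e01 : M 0 1 = 0
  e02 : M 0 2 = 0
  e10 : M 1 0 = 0
  e20 : M 2 0 = 0

theorem isBlk_of_comm (h2 : (2 : F) ≠ 0) {g : GL3} (h : Commute g dJ) : IsBlk (g : Mat) := by
  have e : (g : Mat) * (dJ : GL3) = (dJ : GL3) * (g : Mat) := by rw [← Units.val_mul, h.eq, Units.val_mul]
  rw [coe_dJ] at e
  have h01 := congrFun (congrFun e 0) 1
  have h02 := congrFun (congrFun e 0) 2
  have h10 := congrFun (congrFun e 1) 0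
  have h20 := congrFun (congrFun e 2) 0
  simp [Matrix.mul_apply, Fin.sum_univ_three] at h01 h02 h10 h20
  refine ⟨?_, ?_, ?_, ?_⟩
  · exact (mul_eq_zero.1 (show (2 : F) * (g : Mat) 0 1 = 0 by linear_combination -h01)).resolve_left h2
  · exact (mul_eq_zero.1 (show (2 : F) * (g : Mat) 0 2 = 0 by linear_combination -h02)).resolve_left h2
  · exact (mul_eq_zero.1 (show (2 : F) * (g : Mat) 1 0 = 0 by linear_combination h10)).resolve_left h2
  · exact (mul_eq_zero.1 (show (2 : F) * (g : Mat) 2 0 = 0 by linear_combination h20)).resolve_left h2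

theorem comm_of_isBlk {g : GL3} (h : IsBlk (g : Mat)) : Commute g dJ := by
  refine Units.ext ?_
  rw [Units.val_mul, Units.val_mul, coe_dJ]
  ext i j
  fin_cases i <;> fin_cases j <;> simp [Matrix.mul_apply, Fin.sum_univ_three, h.e01, h.e02, h.e10, h.e20]

/-- the block on the axis -/
def low (M : Matrix (Fin 3) (Fin 3) F) : Matrix (Fin 2) (Fin 2) F := !![M 1 1, M 1 2; M 2 1, M 2 2]

theorem low_mul {M M' : Mat} (h : IsBlk M) : low (M * M') = low M * low M' := by
  ext i j
  fin_cases i <;> fin_cases j <;>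
    simp [low, Matrix.mul_apply, Fin.sum_univ_three, Fin.sum_univ_two, h.e10, h.e20]

theorem low_one : low (1 : Mat) = 1 := by
  ext i j; fin_cases i <;> fin_cases j <;> simp [low]

theorem det_of_blk {M : Mat} (h : IsBlk M) : M.det = M 0 0 * (low M).det := by
  simp [Matrix.det_fin_three, Matrix.det_fin_two, low, h.e01, h.e02, h.e10, h.e20]
  ring

variable (h2 : (2 : F) ≠ 0)

/-- the action of the centraliser on the axis -/
noncomputable def lowHom : Subgroup.centralizer ({dJ} : Set (GL (Fin 3) F)) →* GL (Fin 2) F :=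
  MonoidHom.toHomUnits
    { toFun := fun g => low ((g : GL3) : Mat)
      map_one' := low_one
      map_mul' := fun g g' => low_mul (isBlk_of_comm h2 (Subgroup.mem_centralizer_singleton_iff.1 g.2)) }

theorem coe_lowHom (g : Subgroup.centralizer ({dJ} : Set GL3)) :
    ((lowHom h2 g : GL (Fin 2) F) : M2) = low ((g : GL3) : Mat) := rfl

/-- the projective action on the axis -/
noncomputable def proj : Subgroup.centralizer ({dJ} : Set (GL (Fin 3) F)) →*
    Matrix.ProjGenLinGroup (Fin 2) F :=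
  Matrix.ProjGenLinGroup.mk.comp (lowHom h2)

theorem proj_eq_iff (g g' : Subgroup.centralizer ({dJ} : Set GL3)) :
    proj h2 g = proj h2 g' ↔ ∃ r : F, r ≠ 0 ∧ low ((g' : GL3) : Mat) = r • low ((g : GL3) : Mat) := by
  show Matrix.ProjGenLinGroup.mk (lowHom h2 g) = Matrix.ProjGenLinGroup.mk (lowHom h2 g') ↔ _
  rw [Matrix.ProjGenLinGroup.mk_eq_mk_iff]
  constructor
  · rintro ⟨r, hr⟩
    refine ⟨(r : F), r.ne_zero, ?_⟩
    rw [← coe_lowHom h2 g, ← coe_lowHom h2 g', ← hr]
    simp [GeneralLinearGroup.scalar, Matrix.smul_eq_diagonal_mul]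
    ext i j
    simp [mul_comm]
  · rintro ⟨r, hr, e⟩
    refine ⟨Units.mk0 r hr, Units.ext ?_⟩
    rw [coe_lowHom, e]
    simp [GeneralLinearGroup.scalar, coe_lowHom, Matrix.smul_eq_diagonal_mul]
    ext i j
    simp [mul_comm]

theorem proj_eq_one_iff (g : Subgroup.centralizer ({dJ} : Set GL3)) :
    proj h2 g = 1 ↔ ∃ r : F, r ≠ 0 ∧ low ((g : GL3) : Mat) = r • 1 := by
  rw [← map_one (proj h2), eq_comm, proj_eq_iff]
  simp [low_one]

variable {G : Subgroup (GL (Fin 3) F)}

/-- the condition is invariant under change of basis -/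
theorem conj_noTrv (hG : G ≤ Cfsg.Geo.specialLinear (Fin 3) F) (hT : ¬ HasTrv G) (T : GL3) :
    ¬ HasTrv (G.map (MulAut.conj T).toMonoidHom) := by
  rintro ⟨u, φ, hu, hφ, h0, m, ⟨g, hg, rfl⟩, hm⟩
  have hgv : (MulAut.conj T).toMonoidHom g = T * g * T⁻¹ := rfl
  rw [hgv] at hm
  have hN : (((T * g * T⁻¹ : GL3) : Mat) - 1) = vecMulVec u φ := by
    refine Matrix.ext_iff_mulVec.2 fun x => ?_
    rw [Matrix.sub_mulVec, one_mulVec, hm x, Matrix.vecMulVec_mulVec, op_smul_eq_smul]
    abel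
  refine hT (hasTrv_of_sq_zero hG hg (fun e => ?_) ?_)
  · rw [e, mul_one, mul_inv_cancel, Units.val_one, sub_self] at hN
    obtain ⟨i, hi⟩ := Function.ne_iff.1 hu
    obtain ⟨j, hj⟩ := Function.ne_iff.1 hφ
    exact mul_ne_zero hi hj (congrFun (congrFun hN i) j).symm
  · have e : ((g : Mat) - 1) = ((T⁻¹ : GL3) : Mat) * vecMulVec u φ * (T : Mat) := by
      rw [← hN, mul_sub, sub_mul, mul_one, ← Units.val_mul, ← Units.val_mul, ← Units.val_mul]
      simp [mul_assoc]
    rw [e]
    have hh : vecMulVec u φ * vecMulVec u φ = 0 := by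
      rw [Matrix.vecMulVec_mul_vecMulVec, h0, zero_smul, Matrix.vecMulVec_zero]
    calc ((T⁻¹ : GL3) : Mat) * vecMulVec u φ * (T : Mat) * (((T⁻¹ : GL3) : Mat) * vecMulVec u φ * (T : Mat))
        = ((T⁻¹ : GL3) : Mat) * vecMulVec u φ * ((T : Mat) * ((T⁻¹ : GL3) : Mat)) * vecMulVec u φ * (T : Mat) := by
          simp only [Matrix.mul_assoc]
      _ = 0 := by
          rw [← Units.val_mul, mul_inv_cancel, Units.val_one, mul_one, Matrix.mul_assoc _ (vecMulVec u φ) (vecMulVec u φ), hh]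
          simp

theorem map_conj_le (hG : G ≤ Cfsg.Geo.specialLinear (Fin 3) F) (T : GL3) :
    G.map (MulAut.conj T).toMonoidHom ≤ Cfsg.Geo.specialLinear (Fin 3) F := by
  rintro _ ⟨g, hg, rfl⟩
  exact (MonoidHom.normal_ker _).conj_mem g (hG hg) T

variable [Fintype F]

/-- without transvections the image on the axis has no elements of order `p` -/
theorem proj_order_ne (p : ℕ) [Fact p.Prime] [CharP F p] (hG : G ≤ Cfsg.Geo.specialLinear (Fin 3) F) (hT : ¬ HasTrv G) {g : GL3} (hg : g ∈ G)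
    (hc : g ∈ Subgroup.centralizer ({dJ} : Set GL3)) : orderOf (proj h2 ⟨g, hc⟩) ≠ p := by
  intro ho
  set x : Subgroup.centralizer ({dJ} : Set GL3) := ⟨g, hc⟩
  have : Finite GL3 := inferInstance
  obtain ⟨k, s, hs, hm⟩ := Nat.exists_eq_pow_mul_and_not_dvd (orderOf_pos x).ne' p (Fact.out : p.Prime).ne_one
  set y := x ^ s with hy
  have hy1 : proj h2 y ≠ 1 := by
    rw [hy, map_pow]
    intro e
    have := orderOf_dvd_of_pow_eq_one e
    rw [ho] at this
    exact hs this
  have hyk : ((y : GL3)) ^ p ^ k = 1 := by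
    have e : y ^ p ^ k = 1 := by rw [hy, ← pow_mul, mul_comm, ← hm, pow_orderOf_eq_one]
    exact congrArg Subtype.val e
  have hb := isBlk_of_comm h2 (Subgroup.mem_centralizer_singleton_iff.1 y.2)
  refine hT (hasTrv_of_fix hG p (g := (y : GL3)) (pow_mem hg s) (fun e => hy1 ?_) hyk
    (u := Pi.single 0 1) (φ := Pi.single 0 1) ⟨((y : GL3) : Mat) 0 0, ?_⟩ ⟨((y : GL3) : Mat) 0 0, ?_⟩ ?_)
  · rw [show y = 1 from Subtype.ext e, map_one]
  · ext i
    fin_cases i <;> simp [Matrix.col_apply, hb.e10, hb.e20]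
  · ext i
    fin_cases i <;> simp [Matrix.row_apply, hb.e01, hb.e02]
  · simp

/-- the image on the axis of a subgroup without transvections is on the list -/
theorem classify_proj (p : ℕ) [Fact p.Prime] [CharP F p] (hG : G ≤ Cfsg.Geo.specialLinear (Fin 3) F) (hT : ¬ HasTrv G)
    (H : Subgroup (Subgroup.centralizer ({dJ} : Set GL3))) (hH : ∀ x ∈ H, (x : GL3) ∈ G) :
    Cfsg.Agent.Forms.DicksonCount.Coprime' (H.map (proj h2)) := by
  refine classify p _ ?_
  rintro _ ⟨⟨g, hc⟩, hx, rfl⟩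
  exact proj_order_ne h2 p hG hT (hH _ hx) hc

/-- squares of elements of projective order four commute on the axis -/
theorem sq_commute_proj (p : ℕ) [Fact p.Prime] [CharP F p] (hG : G ≤ Cfsg.Geo.specialLinear (Fin 3) F) (hT : ¬ HasTrv G)
    {x y : Subgroup.centralizer ({dJ} : Set GL3)} (hx : (x : GL3) ∈ G) (hy : (y : GL3) ∈ G)
    (h4x : orderOf (proj h2 x) = 4) (h4y : orderOf (proj h2 y) = 4) :
    Commute (proj h2 x ^ 2) (proj h2 y ^ 2) := by
  set H := G.subgroupOf (Subgroup.centralizer ({dJ} : Set GL3))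
  have h := sq_commute (classify_proj h2 p hG hT H fun z hz => hz) (x := ⟨proj h2 x, x, hx, rfl⟩)
    (y := ⟨proj h2 y, y, hy, rfl⟩) (by rw [← Subgroup.orderOf_coe]; exact h4x)
    (by rw [← Subgroup.orderOf_coe]; exact h4y)
  exact congrArg Subtype.val h.eq

end Cfsg.Agent.PSLThree.Two
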