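import Cfsg.Agent.Lib.PSLThree.Two.Pair
import Cfsg.Agent.Lib.PSLThree.Basic.Inv

/-!
# Involution lifts: traces, common frames, common neighbours
-/

set_option autoImplicit false
set_option linter.unusedSectionVars false
set_option linter.unusedSimpArgs false
set_option linter.style.haveILetI false
set_option maxHeartbeats 800000

namespace Cfsg.Agent.PSLThree.Two

open Matrix

variable {F : Type*} [Field F] {G : Subgroup (GL (Fin 3) F)}

local notation "GL3" => GL (Fin 3) F
local notation "Mat" => Matrix (Fin 3) (Fin 3) F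

/-- an involution of `G` -/
structure IsInv (G : Subgroup (GL (Fin 3) F)) (x : GL (Fin 3) F) : Prop where
  mem : x ∈ G
  sq : x * x = 1
  ne : x ≠ 1

/-- `diag(-1,1,-1)` -/
def dK : GL (Fin 3) F :=
  ⟨!![-1, 0, 0; 0, 1, 0; 0, 0, -1], !![-1, 0, 0; 0, 1, 0; 0, 0, -1],
    by ext i j; fin_cases i <;> fin_cases j <;> simp [Matrix.mul_apply, Fin.sum_univ_three],
    by ext i j; fin_cases i <;> fin_cases j <;> simp [Matrix.mul_apply, Fin.sum_univ_three]⟩

theorem coe_dK : ((dK : GL3) : Mat) = !![-1, 0, 0; 0, 1, 0; 0, 0, -1] := rfl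

variable (h2 : (2 : F) ≠ 0) (hG : G ≤ Cfsg.Geo.specialLinear (Fin 3) F)

theorem IsInv.conj {x : GL3} (h : IsInv G x) (T : GL3) :
    IsInv (G.map (MulAut.conj T).toMonoidHom) (T * x * T⁻¹) :=
  ⟨⟨x, h.mem, rfl⟩, by rw [conj_mul, h.sq, mul_one, mul_inv_cancel],
    fun e => h.ne (conj_eq_one_iff.1 e)⟩

theorem IsInv.mul {a b : GL3} (ha : IsInv G a) (hb : IsInv G b) (hc : Commute a b) (hne : a ≠ b) :
    IsInv G (a * b) :=
  ⟨mul_mem ha.mem hb.mem,
    by rw [mul_assoc, ← mul_assoc b, ← hc.eq, mul_assoc a, hb.sq, mul_one, ha.sq],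
    fun e => hne (by rw [← mul_one a, ← hb.sq, ← mul_assoc, e, one_mul])⟩

theorem trace_conj (T x : GL3) : ((T * x * T⁻¹ : GL3) : Mat).trace = (x : Mat).trace := by
  rw [Units.val_mul, Units.val_mul, Matrix.trace_units_conj]

theorem trace_dJ_mul (m : Mat) : (((dJ : GL3) : Mat) * m).trace = m 0 0 - m 1 1 - m 2 2 := by
  simp [coe_dJ, Matrix.trace_fin_three, Matrix.vecMul, dotProduct, Matrix.mul_apply, Fin.sum_univ_three]
  ring

include h2 hG

theorem IsInv.trace {x : GL3} (h : IsInv G x) : (x : Mat).trace = -1 := by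
  obtain ⟨u, φ, hu, e⟩ := exists_homology h2 hG h.mem h.sq h.ne
  rw [e, Matrix.trace_sub, Matrix.trace_smul, Matrix.trace_vecMulVec, Matrix.trace_one, Fintype.card_fin,
    dotProduct_comm, hu]
  norm_num

/-- a frame in which an involution is `dJ` -/
theorem IsInv.exists_dJ {x : GL3} (h : IsInv G x) : ∃ T : GL3, T * x * T⁻¹ = dJ := by
  obtain ⟨T, hT, -⟩ := exists_block_frame h2 hG h.mem h.sq h.ne
  refine ⟨T, Units.ext ?_⟩
  rw [hT, coe_dJ]
  ext i j; fin_cases i <;> fin_cases j <;> simp [Matrix.diagonal]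

/-- two commuting involutions: the rank-one parts annihilate each other -/
theorem IsInv.prod_zero {a b : GL3} (ha : IsInv G a) (hb : IsInv G b) (hc : Commute a b) (hne : a ≠ b) :
    ((a : Mat) + 1) * ((b : Mat) + 1) = 0 := by
  obtain ⟨u, φ, -, ea⟩ := exists_homology h2 hG ha.mem ha.sq ha.ne
  obtain ⟨w, ψ, -, eb⟩ := exists_homology h2 hG hb.mem hb.sq hb.ne
  have ha1 : (a : Mat) + 1 = vecMulVec ((2 : F) • u) φ := by rw [ea, sub_add_cancel, Matrix.smul_vecMulVec]
  have hb1 : (b : Mat) + 1 = vecMulVec ((2 : F) • w) ψ := by rw [eb, sub_add_cancel, Matrix.smul_vecMulVec]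
  have hca : Commute ((a : Mat) + 1) ((b : Mat) + 1) :=
    ((hc.map (Units.coeHom Mat)).add_left (Commute.one_left _)).add_right (Commute.one_right _)
  have htr : (((a : Mat) + 1) * ((b : Mat) + 1)).trace = 0 := by
    rw [add_mul, mul_add, mul_one, one_mul, Matrix.trace_add, Matrix.trace_add, Matrix.trace_add,
      ← Units.val_mul, (ha.mul hb hc hne).trace h2 hG, ha.trace h2 hG, hb.trace h2 hG, Matrix.trace_one,
      Fintype.card_fin]
    norm_num
  obtain ⟨U, Φ, hX⟩ : ∃ U Φ : Fin 3 → F, ((a : Mat) + 1) * ((b : Mat) + 1) = vecMulVec U Φ :=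
    ⟨(2 : F) • u, (φ ⬝ᵥ ((2 : F) • w)) • ψ, by rw [ha1, hb1, Matrix.vecMulVec_mul_vecMulVec]⟩
  have h0 : vecMulVec U Φ * vecMulVec U Φ = 0 := by
    rw [hX, Matrix.trace_vecMulVec, dotProduct_comm] at htr
    rw [Matrix.vecMulVec_mul_vecMulVec, htr, zero_smul, Matrix.vecMulVec_zero]
  have sq : ∀ {x : GL3}, x * x = 1 → ((x : Mat) + 1) * ((x : Mat) + 1) = (2 : F) • ((x : Mat) + 1) := fun {x} h => by
    have e : (x : Mat) * x = 1 := by rw [← Units.val_mul, h, Units.val_one]
    rw [add_mul, mul_add, e, two_smul]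
    simp only [one_mul, mul_one]; abel
  have h4 : ((4 : F) • (((a : Mat) + 1) * ((b : Mat) + 1))) = 0 := by
    rw [← h0, ← hX, Commute.mul_mul_mul_comm (Commute.symm hca) , sq ha.sq, sq hb.sq, Matrix.smul_mul, Matrix.mul_smul, smul_smul]
    norm_num
  refine (smul_eq_zero.1 h4).resolve_left ?_
  rw [show (4 : F) = 2 * 2 by norm_num]
  exact mul_ne_zero h2 h2

/-- the sum over a frame -/
theorem IsInv.frame_sum {a b : GL3} (ha : IsInv G a) (hb : IsInv G b) (hc : Commute a b) (hne : a ≠ b) :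
    ((a * b : GL3) : Mat) = -1 - (a : Mat) - (b : Mat) := by
  have h := ha.prod_zero h2 hG hb hc hne
  rw [add_mul, mul_add, mul_one, one_mul, ← Units.val_mul] at h
  rw [← sub_eq_zero]
  rw [← h]
  abel

/-- three traces with a fixed involution cannot all be one -/
theorem IsInv.trace_frame {a b u : GL3} (ha : IsInv G a) (hb : IsInv G b) (hu : IsInv G u) (hc : Commute a b)
    (hne : a ≠ b) (h1 : ((a * u : GL3) : Mat).trace = 1) (h1' : ((b * u : GL3) : Mat).trace = 1)
    (h1'' : ((a * b * u : GL3) : Mat).trace = 1) : False := by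
  rw [Units.val_mul (a * b), ha.frame_sum h2 hG hb hc hne, sub_mul, sub_mul, neg_mul, one_mul, Matrix.trace_sub,
    Matrix.trace_sub, Matrix.trace_neg, ← Units.val_mul, ← Units.val_mul, hu.trace h2 hG, h1, h1'] at h1''
  exact h2 (by linear_combination -h1'')

/-- a frame in which two commuting involutions are diagonal -/
theorem IsInv.exists_joint {a b : GL3} (ha : IsInv G a) (hb : IsInv G b) (hc : Commute a b) (hne : a ≠ b) :
    ∃ T : GL3, T * a * T⁻¹ = dJ ∧ T * b * T⁻¹ = dK := by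
  have hab := ha.mul hb hc hne
  obtain ⟨u, φ, hu, ea⟩ := exists_homology h2 hG ha.mem ha.sq ha.ne
  obtain ⟨w, ψ, hw, eb⟩ := exists_homology h2 hG hb.mem hb.sq hb.ne
  obtain ⟨z, χ, hz, eab⟩ := exists_homology h2 hG hab.mem hab.sq hab.ne
  have cross : ∀ {x y : GL3} {r t s v : Fin 3 → F}, (x : Mat) = (2 : F) • vecMulVec r t - 1 →
      (y : Mat) = (2 : F) • vecMulVec s v - 1 → t ⬝ᵥ r = 1 → v ⬝ᵥ s = 1 → IsInv G x → IsInv G y → Commute x y → x ≠ y →
      t ⬝ᵥ s = 0 := by
    intro x y r t s v ex ey hr hs hx hy hxy hn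
    have h := hx.prod_zero h2 hG hy hxy hn
    rw [ex, ey, sub_add_cancel, sub_add_cancel, Matrix.smul_mul, Matrix.mul_smul, smul_smul,
      Matrix.vecMulVec_mul_vecMulVec, smul_eq_zero] at h
    have h' := congrArg (fun M : Mat => t ᵥ* M ⬝ᵥ s) (h.resolve_left (mul_ne_zero h2 h2))
    simpa [Matrix.vecMul_smul, Matrix.vecMul_vecMulVec, smul_dotProduct, hr, hs] using h'
  have hbab : Commute b (a * b) := hc.symm.mul_right (Commute.refl b)
  have haab : Commute a (a * b) := (Commute.refl a).mul_right hc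
  have nb : b ≠ a * b := fun e => ha.ne (mul_eq_right.1 e.symm)
  have na : a ≠ a * b := fun e => hb.ne (mul_eq_left.1 e.symm)
  have c12 := cross ea eb hu hw ha hb hc hne
  have c21 := cross eb ea hw hu hb ha hc.symm hne.symm
  have c13 := cross ea eab hu hz ha hab haab na
  have c31 := cross eab ea hz hu hab ha haab.symm na.symm
  have c23 := cross eb eab hw hz hb hab hbab nb
  have c32 := cross eab eb hz hw hab hb hbab.symm nb.symm
  set B : Mat := !![u 0, w 0, z 0; u 1, w 1, z 1; u 2, w 2, z 2] with hB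
  set B' : Mat := !![φ 0, φ 1, φ 2; ψ 0, ψ 1, ψ 2; χ 0, χ 1, χ 2] with hB'
  simp only [dotProduct, Fin.sum_univ_three] at hu hw hz c12 c21 c13 c31 c23 c32
  have hBB : B' * B = 1 := by
    rw [hB, hB']
    ext i j
    fin_cases i <;> fin_cases j <;> simp [Matrix.mul_apply, Fin.sum_univ_three] <;> assumption
  set T : GL3 := ⟨B', B, hBB, mul_eq_one_comm.1 hBB⟩
  refine ⟨T, Units.ext ?_, Units.ext ?_⟩
  · rw [Units.val_mul, Units.val_mul, ea, coe_dJ]
    show B' * _ * B = _
    rw [Matrix.mul_sub, Matrix.sub_mul, mul_one, hBB, Matrix.mul_smul, Matrix.smul_mul, Matrix.mul_vecMulVec,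
      Matrix.vecMulVec_mul, hB, hB']
    ext i j
    fin_cases i <;> fin_cases j <;>
      simp [Matrix.mulVec, Matrix.vecMul, dotProduct, Fin.sum_univ_three, Matrix.vecMulVec] <;> grind
  · rw [Units.val_mul, Units.val_mul, eb, coe_dK]
    show B' * _ * B = _
    rw [Matrix.mul_sub, Matrix.sub_mul, mul_one, hBB, Matrix.mul_smul, Matrix.smul_mul, Matrix.mul_vecMulVec,
      Matrix.vecMulVec_mul, hB, hB']
    ext i j
    fin_cases i <;> fin_cases j <;>
      simp [Matrix.mulVec, Matrix.vecMul, dotProduct, Fin.sum_univ_three, Matrix.vecMulVec] <;> grind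

omit h2 hG in
theorem diag_of_comm (h2 : (2 : F) ≠ 0) {g : GL3} (hJ : Commute g dJ) (hK : Commute g dK) :
    (g : Mat) = !![(g : Mat) 0 0, 0, 0; 0, (g : Mat) 1 1, 0; 0, 0, (g : Mat) 2 2] := by
  have b := isBlk_of_comm h2 hJ
  have e : (g : Mat) * (dK : GL3) = (dK : GL3) * (g : Mat) := by rw [← Units.val_mul, hK.eq, Units.val_mul]
  rw [coe_dK] at e
  have h12 := congrFun (congrFun e 1) 2
  have h21 := congrFun (congrFun e 2) 1
  simp [Matrix.mul_apply, Fin.sum_univ_three] at h12 h21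
  have e12 : (g : Mat) 1 2 = 0 :=
    (mul_eq_zero.1 (show (2 : F) * (g : Mat) 1 2 = 0 by linear_combination -h12)).resolve_left h2
  have e21 : (g : Mat) 2 1 = 0 :=
    (mul_eq_zero.1 (show (2 : F) * (g : Mat) 2 1 = 0 by linear_combination h21)).resolve_left h2
  ext i j
  fin_cases i <;> fin_cases j <;> simp [b.e01, b.e02, b.e10, b.e20, e12, e21]

/-- an involution commuting with `dJ` other than `dJ` -/
theorem IsInv.corner {A : GL3} (hA : IsInv G A) (hc : Commute A dJ) (hne : A ≠ dJ) :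
    (A : Mat) 0 0 = -1 ∧ (A : Mat) 1 1 + (A : Mat) 2 2 = 0 := by
  have b := isBlk_of_comm h2 hc
  have hAA : (A : Mat) * (A : Mat) = 1 := by rw [← Units.val_mul, hA.sq, Units.val_one]
  have q := fun i j => congrFun (congrFun hAA i) j
  have q00 := q 0 0; have q11 := q 1 1; have q22 := q 2 2; have q12 := q 1 2; have q21 := q 2 1
  simp [Matrix.mul_apply, Fin.sum_univ_three, b.e01, b.e02, b.e10, b.e20] at q00 q11 q22 q12 q21
  have htr := hA.trace h2 hG
  rw [Matrix.trace_fin_three] at htr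
  rcases mul_self_eq_one_iff.1 q00 with h | h
  · exfalso
    have hs : (A : Mat) 1 1 + (A : Mat) 2 2 = -2 := by linear_combination htr - h
    have h12 : (A : Mat) 1 2 = 0 := (mul_eq_zero.1
      (show (2 : F) * (A : Mat) 1 2 = 0 by linear_combination -q12 + (A : Mat) 1 2 * hs)).resolve_left h2
    have h21 : (A : Mat) 2 1 = 0 := (mul_eq_zero.1
      (show (2 : F) * (A : Mat) 2 1 = 0 by linear_combination -q21 + (A : Mat) 2 1 * hs)).resolve_left h2
    rw [h12, zero_mul, add_zero] at q11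
    rw [h12, mul_zero, zero_add] at q22
    have e11 : (A : Mat) 1 1 = -1 := by
      rcases mul_self_eq_one_iff.1 q11 with e | e
      · rcases mul_self_eq_one_iff.1 q22 with e' | e' <;> rw [e, e'] at hs
        · exact absurd (show (2 : F) * 2 = 0 by linear_combination hs) (mul_ne_zero h2 h2)
        · exact absurd (show (2 : F) = 0 by linear_combination hs) h2
      · exact e
    refine hne (Units.ext ?_)
    rw [coe_dJ]
    have e22 : (A : Mat) 2 2 = -1 := by linear_combination hs - e11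
    ext i j
    fin_cases i <;> fin_cases j <;> simp [h, e11, e22, h12, h21, b.e01, b.e02, b.e10, b.e20]
  · exact ⟨h, by linear_combination htr - h⟩

/-- two non-commuting involutions with trace invariant one have one common neighbour -/
theorem IsInv.unique_common {J M A B : GL3} (hJ : IsInv G J) (hM : IsInv G M) (hA : IsInv G A) (hB : IsInv G B)
    (hJM : ((J * M : GL3) : Mat).trace = 1) (hAJ : Commute A J) (hAM : Commute A M) (hBJ : Commute B J)
    (hBM : Commute B M) (hA' : A ≠ J) (hB' : B ≠ J) : A = B := by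
  obtain ⟨T, hT⟩ := hJ.exists_dJ h2 hG
  have key : ∀ A : GL3, IsInv G A → Commute A J → Commute A M → A ≠ J →
      ((T * A * T⁻¹ : GL3) : Mat) = !![-1, 0, 0;
        0, 1 - 2 * ((T * M * T⁻¹ : GL3) : Mat) 1 0 * ((T * M * T⁻¹ : GL3) : Mat) 0 1,
          -2 * ((T * M * T⁻¹ : GL3) : Mat) 1 0 * ((T * M * T⁻¹ : GL3) : Mat) 0 2;
        0, -2 * ((T * M * T⁻¹ : GL3) : Mat) 2 0 * ((T * M * T⁻¹ : GL3) : Mat) 0 1,
          1 - 2 * ((T * M * T⁻¹ : GL3) : Mat) 2 0 * ((T * M * T⁻¹ : GL3) : Mat) 0 2] := by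
    intro A hA hAJ hAM hne
    have hc : Commute (T * A * T⁻¹) dJ := by rw [← hT]; exact hAJ.map (MulAut.conj T)
    have hcM : Commute (T * A * T⁻¹) (T * M * T⁻¹) := hAM.map (MulAut.conj T)
    have hne' : T * A * T⁻¹ ≠ dJ := fun e => hne (by
      rw [← hT] at e; exact (MulAut.conj T).injective e)
    obtain ⟨c0, cs⟩ := (hA.conj T).corner h2 (map_conj_le hG T) hc hne'
    have b := isBlk_of_comm h2 hc
    have htr : ((T * M * T⁻¹ : GL3) : Mat).trace = -1 := by rw [trace_conj, hM.trace h2 hG]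
    have htr' : ((dJ * (T * M * T⁻¹) : GL3) : Mat).trace = 1 := by
      rw [← hT, conj_mul, trace_conj, hJM]
    have hMM : ((T * M * T⁻¹ : GL3) : Mat) * ((T * M * T⁻¹ : GL3) : Mat) = 1 := by
      rw [← Units.val_mul, (hM.conj T).sq, Units.val_one]
    have ec : ((T * A * T⁻¹ : GL3) : Mat) * ((T * M * T⁻¹ : GL3) : Mat) =
        ((T * M * T⁻¹ : GL3) : Mat) * ((T * A * T⁻¹ : GL3) : Mat) := by
      rw [← Units.val_mul, hcM.eq, Units.val_mul]
    rw [Units.val_mul dJ, trace_dJ_mul] at htr'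
    generalize ((T * M * T⁻¹ : GL3) : Mat) = m at *
    generalize ((T * A * T⁻¹ : GL3) : Mat) = a at *
    rw [Matrix.trace_fin_three] at htr
    have m00 : m 0 0 = 0 :=
      (mul_eq_zero.1 (show (2 : F) * m 0 0 = 0 by linear_combination htr + htr')).resolve_left h2
    have q00 := congrFun (congrFun hMM 0) 0
    have c01 := congrFun (congrFun ec 0) 1; have c02 := congrFun (congrFun ec 0) 2
    have c10 := congrFun (congrFun ec 1) 0; have c20 := congrFun (congrFun ec 2) 0
    simp [Matrix.mul_apply, Fin.sum_univ_three, b.e01, b.e02, b.e10, b.e20, m00, c0] at q00 c01 c02 c10 c20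
    ext i j
    fin_cases i <;> fin_cases j <;> simp [b.e01, b.e02, b.e10, b.e20, c0] <;> grind
  refine (MulAut.conj T).injective (Units.ext ?_)
  exact (key A hA hAJ hAM hA').trans (key B hB hBJ hBM hB').symm

variable [Fintype F]

/-- square roots of two involutions that are combinations of one and the involution -/
theorem half_trace (p : ℕ) [Fact p.Prime] [CharP F p] (hT : ¬ HasTrv G) {J M g h : GL3} (hJ : IsInv G J)
    (hM : IsInv G M) (hg : g ∈ G) (hh : h ∈ G) {c c' ι ι' : F} (hc : c ≠ 0) (hc' : c' ≠ 0) (hι : ι * ι = -1)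
    (hι' : ι' * ι' = -1) (eg : (g : Mat) = c • (1 + ι • (J : Mat))) (eh : (h : Mat) = c' • (1 + ι' • (M : Mat))) :
    Commute M J ∨ ((J * M : GL3) : Mat).trace = 1 := by
  obtain ⟨T, hT1⟩ := hJ.exists_dJ h2 hG
  have lin : ∀ (x y : GL3) (k e : F), (x : Mat) = k • (1 + e • (y : Mat)) →
      ((T * x * T⁻¹ : GL3) : Mat) = k • (1 + e • ((T * y * T⁻¹ : GL3) : Mat)) := fun x y k e hx => by
    rw [Units.val_mul, Units.val_mul, hx, Matrix.mul_smul, Matrix.smul_mul, mul_add, add_mul, mul_one,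
      Matrix.mul_smul, Matrix.smul_mul, Units.val_mul, Units.val_mul, ← Units.val_mul T T⁻¹, mul_inv_cancel,
      Units.val_one]
  have htr : ((T * M * T⁻¹ : GL3) : Mat).trace = -1 := by rw [trace_conj, hM.trace h2 hG]
  rcases half_or_commute h2 p (map_conj_le hG T) (conj_noTrv hG hT T) (g := T * g * T⁻¹) (h := T * h * T⁻¹)
    (M := T * M * T⁻¹) (hT1 ▸ (hJ.conj T).mem) (hM.conj T).mem ⟨g, hg, rfl⟩ ⟨h, hh, rfl⟩ (hM.conj T).sq htr hc
    hc' hι hι' (by rw [← hT1]; exact lin g J c ι eg) (lin h M c' ι' eh) with h' | h'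
  · left
    rw [← hT1] at h'
    exact (MulAut.conj T).injective (by rw [map_mul, map_mul]; exact h'.eq)
  · right
    rw [← trace_conj T (J * M), ← conj_mul, hT1, Units.val_mul dJ, trace_dJ_mul]
    rw [Matrix.trace_fin_three] at htr
    linear_combination 2 * h' - htr

end Cfsg.Agent.PSLThree.Two
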