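import Cfsg.Agent.Lib.PSLThree.Two.Cent
import Cfsg.Agent.Lib.Fusion.SylowTwoRankTwo
import Cfsg.Agent.S1213
import Cfsg.Agent.S1193
import Cfsg.Agent.S1197

/-!
# Quasidihedral or wreathed Sylow subgroups: the shape of an involution centraliser
-/

set_option autoImplicit false
set_option linter.unusedSectionVars false
set_option linter.unusedSimpArgs false
set_option linter.style.haveILetI false
set_option maxHeartbeats 800000

namespace Cfsg.Agent.PSLThree.Two

open Matrix
open Cfsg.Agent.Involutions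

theorem cyclic_inv_unique {A : Type*} [Group A] [Finite A] [IsCyclic A] {a b : A} (ha : orderOf a = 2)
    (hb : orderOf b = 2) : a = b := by
  classical
  have := Fintype.ofFinite A
  by_contra hne
  have h : (Finset.univ.filter fun x : A => x ^ 2 = 1).card ≤ 2 := IsCyclic.card_pow_eq_one_le (by norm_num)
  have hsub : ({1, a, b} : Finset A) ⊆ Finset.univ.filter fun x : A => x ^ 2 = 1 := by
    intro x hx
    simp only [Finset.mem_insert, Finset.mem_singleton] at hx
    simp only [Finset.mem_filter, Finset.mem_univ, true_and]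
    rcases hx with rfl | rfl | rfl
    · exact one_pow 2
    · rw [← ha, pow_orderOf_eq_one]
    · rw [← hb, pow_orderOf_eq_one]
  have h3 : ({1, a, b} : Finset A).card = 3 := by
    have a1 : a ≠ 1 := fun e => by rw [e, orderOf_one] at ha; norm_num at ha
    have b1 : b ≠ 1 := fun e => by rw [e, orderOf_one] at hb; norm_num at hb
    rw [Finset.card_insert_of_notMem (by simp [Ne.symm a1, Ne.symm b1]),
      Finset.card_insert_of_notMem (by simpa using hne), Finset.card_singleton]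
  have := Finset.card_le_card hsub
  omega

/-- the facts about an involution centraliser mapped onto a group on the axis -/
structure Axis {F : Type*} [Field F] (p : ℕ) (G : Subgroup (GL (Fin 3) F)) (J : GL (Fin 3) F) (hJ : J ∈ G)
    (ψ : ↥(Subgroup.centralizer ({((⟨J, hJ⟩ : G) : Bar G)} : Set (Bar G))) →*
      Matrix.ProjGenLinGroup (Fin 2) F) : Prop where
  mem_ker : ∀ (k : GL (Fin 3) F) (hk : k ∈ G) (x : ↥(Subgroup.centralizer ({((⟨J, hJ⟩ : G) : Bar G)} : Set (Bar G)))),
    ((⟨k, hk⟩ : G) : Bar G) = x → (ψ x = 1 ↔ InSpan J k)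
  central : ψ.ker ≤ Subgroup.center _
  cyclic : IsCyclic ψ.ker
  range : Nonempty (ψ.range ≃* Equiv.Perm (Fin 4))
  order_ne : ∀ x, orderOf (ψ x) ≠ p
  self : ψ ⟨((⟨J, hJ⟩ : G) : Bar G), Subgroup.mem_centralizer_singleton_iff.2 rfl⟩ = 1

variable {F : Type*} [Field F] {G : Subgroup (GL (Fin 3) F)}

local notation "GL3" => GL (Fin 3) F

theorem Bar.orderOf_inv {J : GL3} (hG : G ≤ Cfsg.Geo.specialLinear (Fin 3) F) (hJ : IsInv G J) :
    orderOf ((⟨J, hJ.mem⟩ : G) : Bar G) = 2 := by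
  have : Fact (Nat.Prime 2) := ⟨Nat.prime_two⟩
  refine orderOf_eq_prime ?_ fun e => hJ.ne ?_
  · rw [← QuotientGroup.mk_pow, QuotientGroup.eq_one_iff, Subgroup.mem_subgroupOf, SubgroupClass.coe_pow, pow_two,
      hJ.sq]
    exact one_mem _
  · exact scalar_eq_one hG (n := 2) (by norm_num) hJ.mem ((mk_eq_one (hg := hJ.mem)).1 e) (by rw [pow_two, hJ.sq])

variable [Fintype F] (h2 : (2 : F) ≠ 0) (hG : G ≤ Cfsg.Geo.specialLinear (Fin 3) F)
include h2 hG

/-- the shape of the centraliser of an involution -/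
theorem exists_axis (p : ℕ) [Fact p.Prime] [CharP F p] (hT : ¬ HasTrv G) (S : Sylow 2 (Bar G))
    (hS : Cfsg.IsQuasiDihedral (S : Subgroup (Bar G)) ∨ Cfsg.IsWreathed (S : Subgroup (Bar G)))
    (hidx : ∀ H : Subgroup (Bar G), H.index ≠ 2) {J : GL3} (hJ : IsInv G J) :
    ∃ ψ, Axis p G J hJ.mem ψ ∧
      ((Cfsg.IsQuasiDihedral (S : Subgroup (Bar G)) ∧ 2 ∣ Nat.card ψ.ker ∧ ¬ 4 ∣ Nat.card ψ.ker ∧
          ∃ R : Sylow 2 ↥(Subgroup.centralizer ({((⟨J, hJ.mem⟩ : G) : Bar G)} : Set (Bar G))),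
            Cfsg.IsQuasiDihedral ↥R.toSubgroup ∧ Nat.card ↥R.toSubgroup = 16) ∨
        (Cfsg.IsWreathed (S : Subgroup (Bar G)) ∧ ∃ (k : GL3) (c ι : F), k ∈ G ∧ c ≠ 0 ∧ ι * ι = -1 ∧
          (k : Matrix (Fin 3) (Fin 3) F) = c • (1 + ι • (J : Matrix (Fin 3) (Fin 3) F)))) := by
  classical
  have : Fact (Nat.Prime 2) := ⟨Nat.prime_two⟩
  set t : Bar G := ((⟨J, hJ.mem⟩ : G) : Bar G) with ht
  set C := Subgroup.centralizer ({t} : Set (Bar G)) with hC
  obtain ⟨ψ, hψ, hne, hlist⟩ := exists_psi h2 hG p hT hJ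
  have htC : t ∈ C := Subgroup.mem_centralizer_singleton_iff.2 rfl
  have hto : orderOf t = 2 := Bar.orderOf_inv hG hJ
  have hself : ψ ⟨t, htC⟩ = 1 := (hψ J hJ.mem ⟨t, htC⟩ rfl).2 (InSpan.self J)
  have hspan : ∀ x : C, x ∈ ψ.ker → ∀ (k : GL3) (hk : k ∈ G), ((⟨k, hk⟩ : G) : Bar G) = x → InSpan J k :=
    fun x hx k hk e => (hψ k hk x e).1 (MonoidHom.mem_ker.1 hx)
  have hcen : ψ.ker ≤ Subgroup.center C := by
    intro x hx
    obtain ⟨k, hk, ek⟩ := exists_rep (x : Bar G)
    refine Subgroup.mem_center_iff.2 fun y => Subtype.ext ?_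
    obtain ⟨l, hl, el⟩ := exists_rep (y : Bar G)
    have hlJ : Commute l J := commute_inv_lift hG hJ.mem hl hJ.sq (by
      rw [el]; exact Subgroup.mem_centralizer_singleton_iff.1 y.2)
    have hlk := (hspan x hx k hk ek).commute hlJ
    rw [Subgroup.coe_mul, Subgroup.coe_mul, ← ek, ← el, ← QuotientGroup.mk_mul, ← QuotientGroup.mk_mul]
    exact congrArg _ (Subtype.ext hlk.eq)
  have hcyc : IsCyclic ψ.ker := by
    have := isCyclic_span h2 hG hJ (ψ.ker.map C.subtype) (by
      rintro _ ⟨x, hx, rfl⟩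
      exact hspan x hx)
    exact isCyclic_of_surjective (ψ.ker.equivMapOfInjective C.subtype C.subtype_injective).symm.toMonoidHom
      (MulEquiv.surjective _)
  obtain ⟨R, hRS, ⟨K, hKn, -, hK2, hKq⟩, -⟩ := S1213.result S hS hidx t hto
  -- transport of the shape
  have e : (S : Subgroup (Bar G)) ≃* (R : Subgroup C) := by
    have hcard : Nat.card ((R : Subgroup C).map C.subtype) = Nat.card (S : Subgroup (Bar G)) := by
      rw [Subgroup.card_map_of_injective C.subtype_injective]; exact hRS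
    have hex := (R.isPGroup'.map C.subtype).exists_le_sylow
    refine Classical.choice ?_
    obtain ⟨T, hT'⟩ := hex
    have hTeq : (R : Subgroup C).map C.subtype = (T : Subgroup (Bar G)) :=
      Subgroup.eq_of_le_of_card_ge hT' (le_of_eq ((Nat.card_congr (T.equiv S).toEquiv).trans hcard.symm))
    exact ⟨((T.equiv S).symm.trans (MulEquiv.subgroupCongr hTeq.symm)).trans
      ((R : Subgroup C).equivMapOfInjective C.subtype C.subtype_injective).symm⟩
  set kR := ψ.ker.subgroupOf (R : Subgroup C) with hkR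
  have hkRle : kR ≤ Subgroup.center (R : Subgroup C) := fun x hx =>
    Subgroup.mem_center_iff.2 fun y => Subtype.ext (Subgroup.mem_center_iff.1 (hcen hx) y)
  -- central two-elements lie in every Sylow subgroup
  have hin : ∀ x : C, x ∈ ψ.ker → ∀ m : ℕ, x ^ 2 ^ m = 1 → x ∈ (R : Subgroup C) := by
    intro x hx m hm
    have hn : (Subgroup.zpowers x).Normal := ⟨fun y hy g => by
      have hyc : y ∈ Subgroup.center C := (Subgroup.zpowers_le.2 (hcen hx)) hy
      rwa [Subgroup.mem_center_iff.1 hyc g, mul_inv_cancel_right]⟩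
    obtain ⟨j, -, hj⟩ := (Nat.dvd_prime_pow Nat.prime_two).1 (orderOf_dvd_of_pow_eq_one hm)
    have hp : IsPGroup 2 (Subgroup.zpowers x) := IsPGroup.of_card (n := j) (by rw [Nat.card_zpowers, hj])
    have := R.3 (R.isPGroup'.to_sup_of_normal_right hp) le_sup_left
    rw [← this]
    exact Subgroup.mem_sup_right (Subgroup.mem_zpowers x)
  have ht2 : (⟨t, htC⟩ : C) ^ 2 ^ 1 = 1 := Subtype.ext (by
    rw [pow_one, SubgroupClass.coe_pow, ← hto]; exact pow_orderOf_eq_one t)
  have htR := hin _ (MonoidHom.mem_ker.2 hself) 1 ht2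
  have hkR2 : 2 ∣ Nat.card kR := by
    have h1 : (⟨⟨t, htC⟩, htR⟩ : (R : Subgroup C)) ∈ kR := MonoidHom.mem_ker.2 hself
    have h2' := kR.orderOf_dvd_natCard h1
    rwa [← Subgroup.orderOf_coe, ← Subgroup.orderOf_coe, hto] at h2'
  have hkdvd : Nat.card kR ∣ Nat.card ψ.ker := by
    rw [hkR, ← Subgroup.card_map_of_injective (R : Subgroup C).subtype_injective, Subgroup.subgroupOf_map_subtype]
    exact Subgroup.card_dvd_of_le inf_le_left
  -- the image of `R`
  set ψr := ψ.rangeRestrict with hψr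
  have hψrs : Function.Surjective ψr := ψ.rangeRestrict_surjective
  set R' := (R : Subgroup C).map ψr with hR'
  have hcardR : Nat.card (R : Subgroup C) = Nat.card kR * Nat.card R' := by
    have h1 := kR.card_mul_index
    rw [← h1]
    congr 1
    have h2' : kR = (ψr.comp (R : Subgroup C).subtype).ker := by
      rw [← MonoidHom.comap_ker, MonoidHom.ker_rangeRestrict]; rfl
    rw [h2', Subgroup.index_ker, MonoidHom.range_comp, Subgroup.range_subtype]
  have hperm : ∀ n, 8 * Nat.card kR ≤ n → Nat.card (R : Subgroup C) = n →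
      Nonempty (ψ.range ≃* Equiv.Perm (Fin 4)) ∧ Nat.card (R : Subgroup C) = 8 * Nat.card kR := by
    intro n hn hR
    have h8 : 8 ≤ Nat.card R' := by
      have h0 : 0 < Nat.card kR := Nat.card_pos
      refine Nat.le_of_mul_le_mul_left ?_ h0
      rw [← hcardR, hR, mul_comm]; exact hn
    set M := K.map ψr with hM
    have hMsurj := ψr.subgroupMap_surjective K
    have h2M : 2 ∣ Nat.card M := by
      -- otherwise a quaternion group lies in the central kernel
      by_contra hodd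
      obtain ⟨P0⟩ := (inferInstance : Nonempty (Sylow 2 K))
      obtain ⟨m, hm, ⟨eq⟩⟩ := hKq P0
      have hker : ∀ x : (P0 : Subgroup K), ψr (((x : K)) : C) = 1 := by
        intro x
        obtain ⟨j, hj⟩ := P0.isPGroup' x
        have hmem : ψr (((x : K)) : C) ∈ M := ⟨_, (x : K).2, rfl⟩
        have h1 : (⟨_, hmem⟩ : M) ^ 2 ^ j = 1 := Subtype.ext (by
          rw [SubgroupClass.coe_pow]
          show ψr (((x : K)) : C) ^ 2 ^ j = 1
          rw [← map_pow]
          have : (((x : K)) : C) ^ 2 ^ j = 1 := congrArg (fun y : (P0 : Subgroup K) => ((y : K) : C)) hj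
          rw [this, map_one])
        have h3 := pow_gcd_eq_one.2 ⟨h1, pow_card_eq_one' (x := (⟨_, hmem⟩ : M))⟩
        rw [(Nat.Coprime.pow_left j ((Nat.Prime.coprime_iff_not_dvd Nat.prime_two).2 hodd) :
          Nat.Coprime (2 ^ j) (Nat.card M)), pow_one] at h3
        exact congrArg Subtype.val h3
      have hab : IsMulCommutative (QuaternionGroup (2 ^ m)) := ⟨⟨fun a b => eq.symm.injective (by
        rw [map_mul, map_mul]
        refine Subtype.ext (Subtype.ext ?_)
        have hx : (((eq.symm a : K)) : C) ∈ ψ.ker := MonoidHom.mem_ker.2 (congrArg Subtype.val (hker (eq.symm a)))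
        exact (Subgroup.mem_center_iff.1 (hcen hx) _).symm)⟩⟩
      have h' := hab.is_comm.comm (QuaternionGroup.a 1 : QuaternionGroup (2 ^ m)) (QuaternionGroup.xa 0)
      rw [QuaternionGroup.a_mul_xa, QuaternionGroup.xa_mul_a, QuaternionGroup.xa.injEq] at h'
      have h2' : ((2 : ℕ) : ZMod (2 * 2 ^ m)) = 0 := by push_cast; linear_combination -h'
      have h4 := Nat.le_of_dvd two_pos ((ZMod.natCast_eq_zero_iff _ _).1 h2')
      have := Nat.pow_le_pow_right two_pos hm
      omega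
    obtain ⟨hiso, hc8⟩ := eq_perm_four hlist M h2M (fun H hH => hK2 (H.comap (ψr.subgroupMap K)) (by
      rw [Subgroup.index_comap_of_surjective _ hMsurj, hH])) R' (R.isPGroup'.map ψr) h8
    exact ⟨hiso, by rw [hcardR, hc8, mul_comm]⟩
  have hcentre : Nat.card kR ∣ Nat.card (Subgroup.center (R : Subgroup C)) := Subgroup.card_dvd_of_le hkRle
  rcases hS with hS | hS
  · obtain ⟨D⟩ := QuasiDihedral.exists_gens hS
    let D' := CentralizerInvolution.mapQ D e
    have hRq : Cfsg.IsQuasiDihedral (R : Subgroup C) := ⟨D'.n, D'.hn, D'.hcard, D'.x, D'.y, D'.hx, D'.hy, D'.hxy⟩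
    have hZ := (S1193.result hRq D'.n D'.hcard).2.2.2.1
    rw [hZ] at hcentre
    have hk2 : Nat.card kR = 2 := Nat.dvd_antisymm hcentre hkR2
    obtain ⟨hiso, h16⟩ := hperm (2 ^ (D'.n + 1)) (by
      rw [hk2, show 8 * 2 = 2 ^ (3 + 1) by norm_num]
      exact Nat.pow_le_pow_right two_pos (by have := D'.hn; omega)) D'.hcard
    refine ⟨ψ, ⟨hψ, hcen, hcyc, hiso, hne, hself⟩, Or.inl ⟨hS, hkR2.trans hkdvd, fun h4 => ?_, R, hRq, by rw [h16, hk2]⟩⟩
    -- an element of order four in the kernel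
    obtain ⟨g, hg⟩ := IsCyclic.exists_generator (α := ψ.ker)
    have hgo : orderOf g = Nat.card ψ.ker := orderOf_eq_card_of_forall_mem_zpowers hg
    obtain ⟨q, hq⟩ := h4
    have hg4 : orderOf (g ^ q) = 4 := by
      have hq0 : q ≠ 0 := fun h => by rw [h, mul_zero] at hq; exact Nat.card_pos.ne' hq
      rw [orderOf_pow' g hq0, hgo, hq, Nat.gcd_eq_right (Dvd.intro_left 4 rfl),
        Nat.mul_div_cancel _ (Nat.pos_of_ne_zero hq0)]
    rw [← Subgroup.orderOf_coe] at hg4
    have hgR := hin _ (g ^ q).2 2 (by rw [show 2 ^ 2 = 4 from rfl, ← hg4, pow_orderOf_eq_one])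
    have hgk : (⟨_, hgR⟩ : (R : Subgroup C)) ∈ kR := (g ^ q).2
    have := kR.orderOf_dvd_natCard hgk
    rw [← Subgroup.orderOf_coe, hg4, hk2] at this
    norm_num at this
  · obtain ⟨D⟩ := Wreathed.exists_gens hS
    let D' := CentralizerInvolution.mapW D e
    have hRw : Cfsg.IsWreathed (R : Subgroup C) :=
      ⟨D'.n, D'.hn, D'.hcard, D'.x, D'.y, D'.z, D'.hx, D'.hxy, D'.hdis, D'.hz, D'.hzx⟩
    have hZ := (S1197.result hRw D'.n D'.hcard).2.1
    rw [hZ] at hcentre
    obtain ⟨a, ha, hka⟩ := (Nat.dvd_prime_pow Nat.prime_two).1 hcentre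
    have hn := D'.hn
    obtain ⟨hiso, hcd⟩ := hperm (2 ^ (2 * D'.n + 1)) (by
      rw [hka, show 8 = 2 ^ 3 from rfl, ← pow_add]
      exact Nat.pow_le_pow_right two_pos (by omega)) D'.hcard
    rw [D'.hcard, hka, show 8 = 2 ^ 3 from rfl, ← pow_add] at hcd
    have ha2 : a = 2 := by
      have := Nat.pow_right_injective le_rfl hcd
      omega
    rw [ha2] at hka
    obtain ⟨g, hg⟩ := IsCyclic.exists_generator (α := ψ.ker)
    have hgo : orderOf g = Nat.card ψ.ker := orderOf_eq_card_of_forall_mem_zpowers hg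
    obtain ⟨q, hq⟩ : 4 ∣ Nat.card ψ.ker := by
      rw [hka] at hkdvd; simpa using hkdvd
    have hq0 : q ≠ 0 := fun h => by rw [h, mul_zero] at hq; exact Nat.card_pos.ne' hq
    have hg4 : orderOf (g ^ q) = 4 := by
      rw [orderOf_pow' g hq0, hgo, hq, Nat.gcd_eq_right (Dvd.intro_left 4 rfl),
        Nat.mul_div_cancel _ (Nat.pos_of_ne_zero hq0)]
    have hsq : (g ^ q) ^ 2 = (⟨⟨t, htC⟩, MonoidHom.mem_ker.2 hself⟩ : ψ.ker) := by
      refine cyclic_inv_unique ?_ ?_
      · rw [orderOf_pow' _ two_ne_zero, hg4]; rfl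
      · rw [← Subgroup.orderOf_coe, ← Subgroup.orderOf_coe]; exact hto
    obtain ⟨k, hk, ek⟩ := exists_rep (((g ^ q : ψ.ker) : C) : Bar G)
    have hsp := hspan _ (g ^ q).2 k hk ek
    have hsqB : ((⟨k * k, mul_mem hk hk⟩ : G) : Bar G) = t := by
      rw [show (⟨k * k, mul_mem hk hk⟩ : G) = ⟨k, hk⟩ * ⟨k, hk⟩ from rfl, QuotientGroup.mk_mul, ek]
      have := congrArg (fun x : ψ.ker => ((x : C) : Bar G)) hsq
      rw [pow_two] at this
      exact this
    have hsc : k * k * J⁻¹ ∈ Cfsg.Geo.scalars (Fin 3) F := by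
      have := (mk_eq (hg := hJ.mem) (hh := mul_mem hk hk)).1 hsqB.symm
      have e2 : k * k * J⁻¹ = J * (J⁻¹ * (k * k)) * J⁻¹ := by group
      rw [e2, (scalar_comm this J).eq.symm, mul_inv_cancel_right]
      exact this
    obtain ⟨c, ι, hc, hι, ec⟩ := half_of_square h2 hG hJ hsp hsc
    exact ⟨ψ, ⟨hψ, hcen, hcyc, hiso, hne, hself⟩, Or.inr ⟨hS, k, c, ι, hk, hc, hι, ec⟩⟩

end Cfsg.Agent.PSLThree.Two
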