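import Cfsg.Agent.Lib.PSLThree.Two.DetThree
import Cfsg.Agent.Lib.M11Order.Frame
import Cfsg.Agent.Recognition.MathieuEleven

/-!
# `PSL₃(3)` and `M₁₁` contain the forbidden configuration
-/

set_option autoImplicit false
set_option linter.unusedSectionVars false
set_option linter.style.haveILetI false

namespace Cfsg.Agent.PSLThree.Two

open Matrix

/-- the configuration excluded by `det_three` -/
def HasConfig (A : Type*) [Group A] : Prop :=
  ∃ e f t a : A, orderOf t = 2 ∧ orderOf a = 2 ∧ Commute t a ∧ t ≠ a ∧ orderOf e = 3 ∧ orderOf f = 3 ∧ Commute e f ∧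
    t * e * t⁻¹ = e⁻¹ ∧ t * f * t⁻¹ = f⁻¹ ∧ a * e * a⁻¹ = e ∧ a * f * a⁻¹ = f⁻¹

theorem HasConfig.congr {A B : Type*} [Group A] [Group B] (i : A ≃* B) (h : HasConfig A) : HasConfig B := by
  obtain ⟨e, f, t, a, h1, h2, h3, h4, h5, h6, h7, h8, h9, h10, h11⟩ := h
  refine ⟨i e, i f, i t, i a, by rw [i.orderOf_eq, h1], by rw [i.orderOf_eq, h2], h3.map i.toMonoidHom,
    fun e' => h4 (i.injective e'), by rw [i.orderOf_eq, h5], by rw [i.orderOf_eq, h6], h7.map i.toMonoidHom,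
    ?_, ?_, ?_, ?_⟩
  · rw [← map_inv, ← map_mul, ← map_mul, h8, map_inv]
  · rw [← map_inv, ← map_mul, ← map_mul, h9, map_inv]
  · rw [← map_inv, ← map_mul, ← map_mul, h10]
  · rw [← map_inv, ← map_mul, ← map_mul, h11, map_inv]

theorem hasConfig_M11 {A : Type*} [Group A] [Finite A] (hA : Cfsg.IsM11 A) : HasConfig A := by
  obtain ⟨Fr⟩ := M11Order.exists_frame hA
  obtain ⟨a, haT, ha, hne⟩ := Fr.exists_reflection hA
  obtain ⟨haP, haz⟩ := Fr.mem_T.1 haT
  have haa : a * a = 1 := by rw [← pow_two, ← ha, pow_orderOf_eq_one]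
  obtain ⟨b, hb⟩ : ∃ b, b = a * Fr.z := ⟨_, rfl⟩
  have hbo : orderOf b = 2 := by
    refine orderOf_eq_prime (hp := ⟨Nat.prime_two⟩) ?_ fun e => hne ?_
    · rw [pow_two, hb]
      calc a * Fr.z * (a * Fr.z) = a * (Fr.z * a) * Fr.z := by group
        _ = (a * a) * (Fr.z * Fr.z) := by rw [← haz]; group
        _ = 1 := by rw [haa, Fr.zz, one_mul]
    · rw [hb] at e
      rw [eq_inv_of_mul_eq_one_left e, Fr.z_inv]
  have hbz : b * Fr.z = Fr.z * b := by rw [hb, ← mul_assoc Fr.z, ← haz]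
  have hbne : b ≠ Fr.z := fun e => by
    rw [hb, mul_eq_right] at e
    rw [e, orderOf_one] at ha; norm_num at ha
  have hbP : b • Fr.P = Fr.P := by rw [hb, mul_smul, Fr.z_smul, haP]
  have hP : Fr.P ∈ Fr.orb := MulAction.mem_orbit_self _
  obtain ⟨x, hxP, hx1, hxa⟩ := Fr.exists_centralized hA hP ha haz hne haP
  obtain ⟨y, hyP, hy1, hyb⟩ := Fr.exists_centralized hA hP hbo hbz hbne hbP
  have three : ∀ w ∈ (Fr.P : Subgroup A), w ≠ 1 → ∃ m : ℕ, orderOf (w ^ m) = 3 := by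
    intro w hw hw1
    have h9 := (Fr.P : Subgroup A).orderOf_dvd_natCard hw
    rw [M11Order.card_sylow3_eq hA Fr.P] at h9
    obtain ⟨j, hj, e⟩ := (Nat.dvd_prime_pow Nat.prime_three (m := 2)).1 h9
    rcases j with _ | _ | _ | j
    · exact absurd (orderOf_eq_one_iff.1 (by simpa using e)) hw1
    · exact ⟨1, by simpa using e⟩
    · refine ⟨3, ?_⟩
      rw [orderOf_pow' _ (by norm_num), e]; rfl
    · omega
  obtain ⟨m, hm⟩ := three x hxP hx1
  obtain ⟨k, hk⟩ := three y hyP hy1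
  have hay : a * y * a⁻¹ = y⁻¹ := by
    have hz := Fr.inv y hyP
    rw [hb] at hyb
    have e1 : a * y⁻¹ * a⁻¹ = y := by
      rw [← hz]
      calc a * (Fr.z * y * Fr.z⁻¹) * a⁻¹ = a * Fr.z * y * (a * Fr.z)⁻¹ := by group
        _ = y := hyb
    calc a * y * a⁻¹ = (a * y⁻¹ * a⁻¹)⁻¹ := by group
      _ = y⁻¹ := by rw [e1]
  have hxy : Commute (x ^ m) (y ^ k) := by
    refine Commute.pow_pow ?_ _ _
    exact congrArg Subtype.val ((M11Order.sylow3_comm hA Fr.P).is_comm.comm ⟨x, hxP⟩ ⟨y, hyP⟩)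
  refine ⟨x ^ m, y ^ k, Fr.z, a, Fr.hz, ha, haz.symm, hne.symm, hm, hk, hxy, ?_, ?_, ?_, ?_⟩
  · rw [← conj_pow, Fr.inv x hxP, inv_pow]
  · rw [← conj_pow, Fr.inv y hyP, inv_pow]
  · rw [← conj_pow, hxa]
  · rw [← conj_pow, hay, inv_pow]

theorem hasConfig_PSL {K : Type*} [Field K] [Fintype K] (hK : Fintype.card K = 3) :
    HasConfig (Matrix.ProjectiveSpecialLinearGroup (Fin 3) K) := by
  have h3 : (3 : K) = 0 := by
    have h := FiniteField.cast_card_eq_zero K
    rw [hK] at h; simpa using h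
  have h2 : (2 : K) ≠ 0 := fun h => one_ne_zero (by linear_combination h3 - h : (1 : K) = 0)
  let e : Matrix.SpecialLinearGroup (Fin 3) K := ⟨!![1, 1, 0; 0, 1, 0; 0, 0, 1], by simp [Matrix.det_fin_three]⟩
  let f : Matrix.SpecialLinearGroup (Fin 3) K := ⟨!![1, 0, 1; 0, 1, 0; 0, 0, 1], by simp [Matrix.det_fin_three]⟩
  let t : Matrix.SpecialLinearGroup (Fin 3) K := ⟨!![1, 0, 0; 0, -1, 0; 0, 0, -1], by simp [Matrix.det_fin_three]⟩
  let a : Matrix.SpecialLinearGroup (Fin 3) K := ⟨!![-1, 0, 0; 0, -1, 0; 0, 0, 1], by simp [Matrix.det_fin_three]⟩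
  let q : Matrix.SpecialLinearGroup (Fin 3) K →* Matrix.ProjectiveSpecialLinearGroup (Fin 3) K := QuotientGroup.mk' _
  -- distinguish from the centre
  have sep : ∀ (x : Matrix.SpecialLinearGroup (Fin 3) K) (i j : Fin 3),
      (i ≠ j ∧ (x : Matrix (Fin 3) (Fin 3) K) i j ≠ 0) ∨
        (x : Matrix (Fin 3) (Fin 3) K) i i ≠ (x : Matrix (Fin 3) (Fin 3) K) j j → q x ≠ 1 := by
    intro x i j h hx
    obtain ⟨r, -, hr⟩ := Matrix.SpecialLinearGroup.mem_center_iff.1 ((QuotientGroup.eq_one_iff x).1 hx)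
    rw [← hr, Matrix.scalar_apply] at h
    rcases h with ⟨hij, h⟩ | h
    · exact h (Matrix.diagonal_apply_ne _ hij)
    · exact h (by rw [Matrix.diagonal_apply_eq, Matrix.diagonal_apply_eq])
  have sq : ∀ x : Matrix.SpecialLinearGroup (Fin 3) K, x * x = 1 → q x ≠ 1 → orderOf (q x) = 2 := fun x h h1 =>
    orderOf_eq_prime (hp := ⟨Nat.prime_two⟩) (by rw [pow_two, ← map_mul, h, map_one]) h1
  have cube : ∀ x : Matrix.SpecialLinearGroup (Fin 3) K, x * (x * x) = 1 → q x ≠ 1 → orderOf (q x) = 3 := fun x h h1 =>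
    orderOf_eq_prime (hp := ⟨Nat.prime_three⟩) (by rw [pow_three, ← map_mul, ← map_mul, h, map_one]) h1
  have com : ∀ x y : Matrix.SpecialLinearGroup (Fin 3) K, x * y = y * x → Commute (q x) (q y) := fun x y h => by
    rw [Commute, SemiconjBy, ← map_mul, ← map_mul, h]
  have inv : ∀ x y : Matrix.SpecialLinearGroup (Fin 3) K, x * y * x * y = 1 → x * x = 1 → q x * q y * (q x)⁻¹ = (q y)⁻¹ := fun x y h hxx => by
    rw [← map_inv, ← map_mul, ← map_mul, ← map_inv, inv_eq_of_mul_eq_one_right hxx, eq_inv_of_mul_eq_one_left h]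
  have fixe : ∀ x y : Matrix.SpecialLinearGroup (Fin 3) K, x * y = y * x → q x * q y * (q x)⁻¹ = q y := fun x y h => by
    rw [← map_inv, ← map_mul, ← map_mul, h, mul_inv_cancel_right]
  have n1 : (1 : K) ≠ -1 := fun h => h2 (by linear_combination h)
  have cm : ∀ x y : Matrix.SpecialLinearGroup (Fin 3) K, (x * y).1 = x.1 * y.1 := fun _ _ => rfl
  have c1 : (1 : Matrix.SpecialLinearGroup (Fin 3) K).1 = 1 := rfl
  have tt : t * t = 1 := Subtype.ext (by simp only [cm, c1]; simp [t, Matrix.mul_fin_three, Matrix.one_fin_three])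
  have aa : a * a = 1 := Subtype.ext (by simp only [cm, c1]; simp [a, Matrix.mul_fin_three, Matrix.one_fin_three])
  have ta : t * a = a * t := Subtype.ext (by simp only [cm, c1]; simp [a, t, Matrix.mul_fin_three])
  have ef : e * f = f * e := Subtype.ext (by simp only [cm, c1]; simp [e, f, Matrix.mul_fin_three])
  have ae : a * e = e * a := Subtype.ext (by simp only [cm, c1]; simp [e, a, Matrix.mul_fin_three])
  have three : (1 : K) + (1 + 1) = 0 := by linear_combination h3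
  have three' : (1 : K) + 1 + 1 = 0 := by linear_combination h3
  have ee : e * (e * e) = 1 := Subtype.ext (by simp only [cm, c1]; simp [e, Matrix.mul_fin_three, Matrix.one_fin_three, three, three'])
  have ff : f * (f * f) = 1 := Subtype.ext (by simp only [cm, c1]; simp [f, Matrix.mul_fin_three, Matrix.one_fin_three, three, three'])
  have te : t * e * t * e = 1 := Subtype.ext (by simp only [cm, c1]; simp [t, e, Matrix.mul_fin_three, Matrix.one_fin_three])
  have tf : t * f * t * f = 1 := Subtype.ext (by simp only [cm, c1]; simp [t, f, Matrix.mul_fin_three, Matrix.one_fin_three])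
  have af : a * f * a * f = 1 := Subtype.ext (by simp only [cm, c1]; simp [a, f, Matrix.mul_fin_three, Matrix.one_fin_three])
  have t1 : q t ≠ 1 := sep t 0 1 (Or.inr (by simp [t, n1]))
  have a1 : q a ≠ 1 := sep a 0 2 (Or.inr (by simp [a, n1.symm]))
  have ta1 : q (t * a) ≠ 1 := sep (t * a) 0 1 (Or.inr (by simp only [cm]; simp [t, a, Matrix.mul_fin_three, n1.symm]))
  have e1 : q e ≠ 1 := sep e 0 1 (Or.inl ⟨by decide, by simp [e]⟩)
  have f1 : q f ≠ 1 := sep f 0 2 (Or.inl ⟨by decide, by simp [f]⟩)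
  exact ⟨q e, q f, q t, q a, sq t tt t1, sq a aa a1, com t a ta,
    fun h => ta1 (by rw [map_mul, h, ← map_mul, aa, map_one]), cube e ee e1, cube f ff f1,
    com e f ef, inv t e te tt, inv t f tf tt, fixe a e ae, inv a f af aa⟩

variable {F : Type*} [Field F] {G : Subgroup (GL (Fin 3) F)}

theorem no_config (h2 : (2 : F) ≠ 0) (h3 : (3 : F) ≠ 0) (hG : G ≤ Cfsg.Geo.specialLinear (Fin 3) F) :
    ¬ HasConfig (Bar G) := by
  rintro ⟨e, f, t, a, h1, h2', h3', h4, h5, h6, h7, h8, h9, h10, h11⟩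
  exact det_three h2 h3 hG h1 h2' h3' h4 h5 h6 h7 h8 h9 h10 h11

end Cfsg.Agent.PSLThree.Two
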