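import Cfsg.Agent.Lib.PSLThree.Two.QD
import Cfsg.Agent.Lib.PSLThree.Two.Models
import Cfsg.Agent.Lib.GLTwoThree.Fusion
import Cfsg.Agent.Lib.CIT.UFourModel
import Cfsg.Agent.S2916
import Cfsg.Agent.S0516

/-!
# Without transvections the Sylow 2-subgroups are dihedral
-/

set_option autoImplicit false
set_option linter.unusedSectionVars false
set_option linter.style.haveILetI false

namespace Cfsg.Agent.PSLThree.Two

open Matrix

variable {F : Type*} [Field F] {P : Subgroup (GL (Fin 3) F)}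

local notation "GL3" => GL (Fin 3) F

theorem no_ufour [Fintype F] (h2 : (2 : F) ≠ 0) (hP : P ≤ Cfsg.Geo.specialLinear (Fin 3) F)
    (S : Sylow 2 (Bar P)) {K : Type*} [Field K] [Fintype K] (hK : Fintype.card K = 16)
    (Q : Sylow 2 (Cfsg.PSU 3 K 4)) (e : (S : Subgroup (Bar P)) ≃* (Q : Subgroup (Cfsg.PSU 3 K 4))) : False := by
  classical
  obtain ⟨hT, hZ, -, -, hexp, -⟩ := CIT.UFour.model_facts hK Q e
  set Z := Subgroup.center (S : Subgroup (Bar P)) with hZdef
  have : Nontrivial Z := Finite.one_lt_card_iff_nontrivial.1 (by rw [hZ]; norm_num)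
  obtain ⟨a, ha⟩ := exists_ne (1 : Z)
  obtain ⟨b, hb1, hba⟩ : ∃ b : Z, b ≠ 1 ∧ b ≠ a := by
    by_contra hn
    push Not at hn
    have hsub : (Set.univ : Set Z) ⊆ {1, a} := fun x _ => by
      by_cases hx : x = 1
      · exact Or.inl hx
      · exact Or.inr (hn x hx)
    have := Set.ncard_le_ncard hsub
    rw [Set.ncard_univ, hZ] at this
    exact absurd (this.trans (Set.ncard_insert_le _ _)) (by simp)
  have lift : ∀ x : Z, x ≠ 1 → ∃ J, ∃ hJ : IsInv P J, ((⟨J, hJ.mem⟩ : P) : Bar P) = ((x : (S : Subgroup (Bar P))) : Bar P) := by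
    intro x hx
    obtain ⟨J, hJ, hsq, e⟩ := exists_inv_lift hP (x := ((x : (S : Subgroup (Bar P))) : Bar P))
      (congrArg (fun y : (S : Subgroup (Bar P)) => (y : Bar P)) (hexp x x.2))
    refine ⟨J, ⟨hJ, hsq, fun h1 => hx (Subtype.ext (Subtype.ext ?_))⟩, e⟩
    subst h1
    exact e.symm
  obtain ⟨A, hA, eA⟩ := lift a ha
  obtain ⟨B, hB, eB⟩ := lift b hb1
  have hcomm : ∀ (x : Z) (y : (S : Subgroup (Bar P))), Commute (y : Bar P) ((x : (S : Subgroup (Bar P))) : Bar P) :=
    fun x y => congrArg (fun z : (S : Subgroup (Bar P)) => (z : Bar P)) (Subgroup.mem_center_iff.1 x.2 y)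
  have hAB : Commute A B := commute_inv_lift hP hB.mem hA.mem hB.sq (by rw [eA, eB]; exact hcomm b a)
  have hne : A ≠ B := fun h => hba (Subtype.ext (Subtype.ext (by subst h; exact eB.symm.trans eA)))
  obtain ⟨T, eTA, eTB⟩ := hA.exists_joint h2 hP hB hAB hne
  have : IsMulCommutative (S : Subgroup (Bar P)) := ⟨⟨fun x y => Subtype.ext (by
    obtain ⟨k, hk, ek⟩ := exists_rep (x : Bar P)
    obtain ⟨l, hl, el⟩ := exists_rep (y : Bar P)
    have diag : ∀ {g : GL3} (hg : g ∈ P) (z : (S : Subgroup (Bar P))), ((⟨g, hg⟩ : P) : Bar P) = z →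
        ((T * g * T⁻¹ : GL3) : Matrix (Fin 3) (Fin 3) F) = !![((T * g * T⁻¹ : GL3) : Matrix (Fin 3) (Fin 3) F) 0 0, 0, 0;
          0, ((T * g * T⁻¹ : GL3) : Matrix (Fin 3) (Fin 3) F) 1 1, 0;
          0, 0, ((T * g * T⁻¹ : GL3) : Matrix (Fin 3) (Fin 3) F) 2 2] := fun {g} hg z ez => by
      have h1 := commute_inv_lift hP hA.mem hg hA.sq (by rw [ez, eA]; exact hcomm a z)
      have h2' := commute_inv_lift hP hB.mem hg hB.sq (by rw [ez, eB]; exact hcomm b z)
      exact diag_of_comm h2 (by rw [← eTA]; exact h1.map (MulAut.conj T))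
        (by rw [← eTB]; exact h2'.map (MulAut.conj T))
    have hkl : k * l = l * k := by
      refine (MulAut.conj T).injective ?_
      rw [map_mul, map_mul]
      refine Units.ext ?_
      show ((T * k * T⁻¹ : GL3) : Matrix (Fin 3) (Fin 3) F) * ((T * l * T⁻¹ : GL3) : Matrix (Fin 3) (Fin 3) F) =
        ((T * l * T⁻¹ : GL3) : Matrix (Fin 3) (Fin 3) F) * ((T * k * T⁻¹ : GL3) : Matrix (Fin 3) (Fin 3) F)
      rw [diag hk x ek, diag hl y el]
      simp [mul_comm]
    rw [Subgroup.coe_mul, Subgroup.coe_mul, ← ek, ← el, ← QuotientGroup.mk_mul, ← QuotientGroup.mk_mul]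
    exact congrArg _ (Subtype.ext hkl))⟩⟩
  have htop : Z = ⊤ := (Subgroup.eq_top_iff' _).2 fun x => Subgroup.mem_center_iff.2 fun y => this.is_comm.comm y x
  rw [htop, Subgroup.card_top, hT] at hZ
  norm_num at hZ

/-- without transvections the Sylow 2-subgroups of `Bar P` are dihedral -/
theorem dihedral_sylow [Fintype F] (p α : ℕ) [Fact p.Prime] (hp : p ≠ 2) (hF : Fintype.card F = p ^ α)
    (hC : Core P) (hT : ¬ HasTrv P) (S : Sylow 2 (Bar P)) :
    ∃ n, 2 ≤ n ∧ Nonempty ((S : Subgroup (Bar P)) ≃* DihedralGroup n) := by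
  have := hC.simple
  haveI : CharP F p := charP_of_card_eq_prime_pow hF
  have h2 : (2 : F) ≠ 0 := fun h => hp <| by
    have h' := (CharP.cast_eq_zero_iff F p 2).1 (by exact_mod_cast h)
    exact (Nat.prime_dvd_prime_iff_eq (Fact.out : p.Prime) Nat.prime_two).1 h'
  letI : Fintype (GaloisField 2 4) := Fintype.ofFinite _
  have h16 : Fintype.card (GaloisField 2 4) = 16 := by
    rw [← Nat.card_eq_fintype_card, GaloisField.card 2 4 (by norm_num)]; norm_num
  obtain ⟨Q⟩ := (inferInstance : Nonempty (Sylow 2 (Cfsg.PSU 3 (GaloisField 2 4) 4)))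
  rcases S0516.result hC.nonabelian (pRankLE_two h2 hC.le) S h16 Q with h | h | h | h
  · exact h
  · exfalso
    obtain ⟨h3, t, ht, hiso⟩ := qd_centralizer h2 p hC hT S h
    obtain ⟨i⟩ := hiso
    have hcfg := no_config (G := P) h2 h3 hC.le
    -- an element of odd order
    let u : GL (Fin 2) (ZMod 3) := ⟨!![1, 1; 0, 1], !![1, 2; 0, 1], by decide +kernel, by decide +kernel⟩
    have hu : orderOf u = 3 := orderOf_eq_prime (hp := ⟨Nat.prime_three⟩) (by decide +kernel) (by decide +kernel)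
    have hg : orderOf ((i.symm u : ↥(Subgroup.centralizer ({t} : Set (Bar P)))) : Bar P) = 3 := by
      rw [Subgroup.orderOf_coe, i.symm.orderOf_eq, hu]
    have hO : Cfsg.pResidual 2 (Bar P) = ⊤ := GLTwoThree.pResidual_eq_top_of_simple
      (g := ((i.symm u : ↥(Subgroup.centralizer ({t} : Set (Bar P)))) : Bar P))
      (fun e => by rw [e, orderOf_one] at hg; norm_num at hg) (by rw [hg]; norm_num)
    rcases S2916.result hO t ht ⟨i⟩ with ⟨K, _, _, hK, ⟨j⟩⟩ | hM
    · exact hcfg ((hasConfig_PSL hK).congr j.symm)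
    · obtain ⟨j⟩ := hM
      exact hcfg ((hasConfig_M11 Recognition.MathieuEleven.isM11_M11).congr j.symm)
  · exact (wreathed_false h2 p hC hT S h).elim
  · exact (no_ufour h2 hC.le S h16 Q (Classical.choice h)).elim

end Cfsg.Agent.PSLThree.Two
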