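import Cfsg.Agent.Lib.PSLThree.Two.Frame

/-!
# Two involutions with square roots of homology type

If neither `M` commutes with `dJ` nor `M₀₀ = 0`, a group without transvections cannot contain both
`c(1+ιJ)` and `c'(1+ι'M)`.
-/

set_option autoImplicit false
set_option linter.unusedSectionVars false
set_option linter.unusedSimpArgs false
set_option linter.style.haveILetI false
set_option maxHeartbeats 800000

namespace Cfsg.Agent.PSLThree.Two

open Matrix

variable {F : Type*} [Field F] (h2 : (2 : F) ≠ 0)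

local notation "GL3" => GL (Fin 3) F
local notation "Mat" => Matrix (Fin 3) (Fin 3) F
local notation "M2" => Matrix (Fin 2) (Fin 2) F

include h2

/-- a square root of a non-scalar block has projective order four -/
theorem proj_order_four {x d : Subgroup.centralizer ({dJ} : Set GL3)} (hd : low ((d : GL3) : Mat) * low ((d : GL3) : Mat) = 1)
    (hd01 : ∀ c : F, low ((d : GL3) : Mat) ≠ c • 1) {c ι : F} (hc : c ≠ 0) (hι : ι * ι = -1)
    (hx : low ((x : GL3) : Mat) = c • (1 + ι • low ((d : GL3) : Mat))) :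
    proj h2 x ^ 2 = proj h2 d ∧ orderOf (proj h2 x) = 4 := by
  have hι0 : ι ≠ 0 := fun e => by rw [e, mul_zero] at hι; exact one_ne_zero (neg_eq_zero.1 hι.symm)
  have hsq : proj h2 (x ^ 2) = proj h2 d := by
    refine ((proj_eq_iff h2 _ _).2 ⟨c * c * (2 * ι), mul_ne_zero (mul_ne_zero hc hc) (mul_ne_zero h2 hι0), ?_⟩).symm
    rw [show ((x ^ 2 : Subgroup.centralizer ({dJ} : Set GL3)) : GL3) = (x : GL3) * (x : GL3) from by
      rw [pow_two]; rfl, Units.val_mul, low_mul (isBlk_of_comm h2 (Subgroup.mem_centralizer_singleton_iff.1 x.2)), hx]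
    simp only [Matrix.smul_mul, Matrix.mul_smul, add_mul, mul_add, one_mul, mul_one, hd, smul_add, smul_smul]
    ext i j
    simp only [Matrix.add_apply, Matrix.smul_apply, smul_eq_mul]
    linear_combination (c * c * ((1 : M2) i j)) * hι
  have hd1 : proj h2 d ≠ 1 := fun e => by
    obtain ⟨r, -, hr⟩ := (proj_eq_one_iff h2 d).1 e
    exact hd01 r hr
  have hd2 : proj h2 d ^ 2 = 1 := by
    rw [← map_pow, proj_eq_one_iff]
    refine ⟨1, one_ne_zero, ?_⟩
    rw [show ((d ^ 2 : Subgroup.centralizer ({dJ} : Set GL3)) : GL3) = (d : GL3) * (d : GL3) from by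
      rw [pow_two]; rfl, Units.val_mul, low_mul (isBlk_of_comm h2 (Subgroup.mem_centralizer_singleton_iff.1 d.2)), hd,
      one_smul]
  have hx2 : proj h2 x ^ 2 = proj h2 d := by rw [← map_pow, hsq]
  refine ⟨hx2, ?_⟩
  have : Fact (Nat.Prime 2) := ⟨Nat.prime_two⟩
  rw [show (4 : ℕ) = 2 ^ (1 + 1) from rfl]
  refine orderOf_eq_prime_pow (by rw [pow_one, hx2]; exact hd1) ?_
  rw [pow_succ, pow_mul, pow_one, hx2, hd2]

variable [Fintype F] {G : Subgroup (GL (Fin 3) F)}

/-- two half homologies commute or their involutions have trace invariant zero -/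
theorem half_or_commute (p : ℕ) [Fact p.Prime] [CharP F p] (hG : G ≤ Cfsg.Geo.specialLinear (Fin 3) F)
    (hT : ¬ HasTrv G) {g h M : GL3} (hdG : dJ ∈ G) (hMG : M ∈ G) (hgG : g ∈ G) (hhG : h ∈ G) (hM : M * M = 1)
    (htr : (M : Mat).trace = -1) {c c' ι ι' : F} (hc : c ≠ 0) (hc' : c' ≠ 0) (hι : ι * ι = -1)
    (hι' : ι' * ι' = -1) (hg : (g : Mat) = c • (1 + ι • ((dJ : GL3) : Mat)))
    (hh : (h : Mat) = c' • (1 + ι' • (M : Mat))) : Commute M dJ ∨ (M : Mat) 0 0 = 0 := by
  obtain ⟨a, r1, r2, m1, m2, w11, w12, w21, w22, hMe⟩ : ∃ a r1 r2 m1 m2 w11 w12 w21 w22 : F,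
      (M : Mat) = !![a, r1, r2; m1, w11, w12; m2, w21, w22] :=
    ⟨_, _, _, _, _, _, _, _, _, Matrix.eta_fin_three _⟩
  have hMM : (M : Mat) * (M : Mat) = 1 := by rw [← Units.val_mul, hM, Units.val_one]
  have q := fun i j => congrFun (congrFun hMM i) j
  have q00 := q 0 0; have q01 := q 0 1; have q02 := q 0 2
  have q10 := q 1 0; have q11 := q 1 1; have q12 := q 1 2
  have q20 := q 2 0; have q21 := q 2 1; have q22 := q 2 2
  simp [hMe, Matrix.mul_apply, Fin.sum_univ_three] at q00 q01 q02 q10 q11 q12 q20 q21 q22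
  simp [hMe, Matrix.trace_fin_three] at htr
  have hM00 : (M : Mat) 0 0 = a := by simp [hMe]
  rw [hM00]
  set s := r1 * m1 + r2 * m2 with hs
  rcases ne_or_eq s 0 with hs0 | hs0
  · right
    -- the plane through both centres splits off
    have hBdet : (!![0, 1, 0; -r2, 0, m1; r1, 0, m2] : Mat).det = s := by
      simp [Matrix.det_fin_three, hs]; ring
    set B : GL3 := Matrix.GeneralLinearGroup.mkOfDetNeZero _ (hBdet ▸ hs0) with hB
    have hBc : (B : Mat) = !![0, 1, 0; -r2, 0, m1; r1, 0, m2] := rfl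
    set T := B⁻¹ with hT'
    have key : ∀ (x : GL3) (N : Mat), (x : Mat) * (B : Mat) = (B : Mat) * N →
        ((T * x * T⁻¹ : GL3) : Mat) = N := fun x N e => by
      rw [hT', inv_inv, Units.val_mul, Units.val_mul, Matrix.mul_assoc, e, ← Matrix.mul_assoc,
        ← Units.val_mul, inv_mul_cancel, Units.val_one, one_mul]
    have ed : ((T * dJ * T⁻¹ : GL3) : Mat) = !![-1, 0, 0; 0, 1, 0; 0, 0, -1] := by
      refine key _ _ ?_
      rw [coe_dJ, hBc]
      ext i j; fin_cases i <;> fin_cases j <;> simp [Matrix.mul_apply, Fin.sum_univ_three]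
    have eM : ((T * M * T⁻¹ : GL3) : Mat) = !![-1, 0, 0; 0, a, s; 0, 1, -a] := by
      refine key _ _ ?_
      rw [hBc, hMe]
      ext i j
      fin_cases i <;> fin_cases j <;> simp [Matrix.mul_apply, Fin.sum_univ_three, hs] <;> grind
    have hG' := map_conj_le hG T
    have hT2 := conj_noTrv hG hT T
    have lin : ∀ (x : GL3) (k e : F) (y : GL3), (x : Mat) = k • (1 + e • (y : Mat)) →
        ((T * x * T⁻¹ : GL3) : Mat) = k • (1 + e • ((T * y * T⁻¹ : GL3) : Mat)) := fun x k e y hx => by
      rw [Units.val_mul, Units.val_mul, hx, Matrix.mul_smul, Matrix.smul_mul, mul_add, add_mul, mul_one,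
        Matrix.mul_smul, Matrix.smul_mul, Units.val_mul, Units.val_mul, ← Units.val_mul T T⁻¹, mul_inv_cancel,
        Units.val_one]
    have memC : ∀ {x : GL3}, IsBlk (x : Mat) → x ∈ Subgroup.centralizer ({dJ} : Set GL3) := fun hx =>
      Subgroup.mem_centralizer_singleton_iff.2 (comm_of_isBlk hx)
    have bd : IsBlk ((T * dJ * T⁻¹ : GL3) : Mat) := by rw [ed]; constructor <;> simp
    have bM : IsBlk ((T * M * T⁻¹ : GL3) : Mat) := by rw [eM]; constructor <;> simp
    have blin : ∀ {y : GL3} (k e : F), IsBlk (y : Mat) → IsBlk (k • (1 + e • (y : Mat))) := fun k e hy => by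
      constructor <;> simp [hy.e01, hy.e02, hy.e10, hy.e20]
    have bg : IsBlk ((T * g * T⁻¹ : GL3) : Mat) := by rw [lin g c ι dJ hg]; exact blin _ _ bd
    have bh : IsBlk ((T * h * T⁻¹ : GL3) : Mat) := by rw [lin h c' ι' M hh]; exact blin _ _ bM
    have llin : ∀ (k e : F) (Y : Mat), low (k • (1 + e • Y)) = k • (1 + e • low Y) := fun k e Y => by
      ext i j; fin_cases i <;> fin_cases j <;> simp [low]
    set x : Subgroup.centralizer ({dJ} : Set GL3) := ⟨T * g * T⁻¹, memC bg⟩
    set y : Subgroup.centralizer ({dJ} : Set GL3) := ⟨T * h * T⁻¹, memC bh⟩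
    set d : Subgroup.centralizer ({dJ} : Set GL3) := ⟨T * dJ * T⁻¹, memC bd⟩
    set n : Subgroup.centralizer ({dJ} : Set GL3) := ⟨T * M * T⁻¹, memC bM⟩
    have ld : low ((d : GL3) : Mat) = !![1, 0; 0, -1] := by
      show low ((T * dJ * T⁻¹ : GL3) : Mat) = _
      rw [ed]; ext i j; fin_cases i <;> fin_cases j <;> simp [low]
    have ln : low ((n : GL3) : Mat) = !![a, s; 1, -a] := by
      show low ((T * M * T⁻¹ : GL3) : Mat) = _
      rw [eM]; ext i j; fin_cases i <;> fin_cases j <;> simp [low]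
    obtain ⟨hx2, hx4⟩ := proj_order_four h2 (x := x) (d := d) (by
        rw [ld]; ext i j; fin_cases i <;> fin_cases j <;> simp [Matrix.mul_apply, Fin.sum_univ_two])
      (fun k e => by
        rw [ld] at e
        have e0 := congrFun (congrFun e 0) 0
        have e1 := congrFun (congrFun e 1) 1
        simp at e0 e1
        exact h2 (by linear_combination e0 - e1)) hc hι (by
        show low ((T * g * T⁻¹ : GL3) : Mat) = _
        rw [lin g c ι dJ hg, llin])
    obtain ⟨hy2, hy4⟩ := proj_order_four h2 (x := y) (d := n) (by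
        rw [ln]; ext i j; fin_cases i <;> fin_cases j <;> simp [Matrix.mul_apply, Fin.sum_univ_two, hs] <;>
          grind)
      (fun k e => by
        rw [ln] at e
        have e0 := congrFun (congrFun e 1) 0
        simp at e0) hc' hι' (by
        show low ((T * h * T⁻¹ : GL3) : Mat) = _
        rw [lin h c' ι' M hh, llin])
    have hcm := sq_commute_proj h2 p hG' hT2 (x := x) (y := y) ⟨g, hgG, rfl⟩ ⟨h, hhG, rfl⟩ hx4 hy4
    rw [hx2, hy2] at hcm
    have := hcm.eq
    rw [← map_mul, ← map_mul, proj_eq_iff] at this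
    obtain ⟨r, -, hr⟩ := this
    rw [show (((n * d : Subgroup.centralizer ({dJ} : Set GL3)) : GL3) : Mat) = ((n : GL3) : Mat) * ((d : GL3) : Mat) from rfl,
      show (((d * n : Subgroup.centralizer ({dJ} : Set GL3)) : GL3) : Mat) = ((d : GL3) : Mat) * ((n : GL3) : Mat) from rfl,
      low_mul (isBlk_of_comm h2 (Subgroup.mem_centralizer_singleton_iff.1 n.2)),
      low_mul (isBlk_of_comm h2 (Subgroup.mem_centralizer_singleton_iff.1 d.2)), ld, ln] at hr
    have e10 := congrFun (congrFun hr 1) 0
    have e00 := congrFun (congrFun hr 0) 0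
    simp [Matrix.mul_apply, Fin.sum_univ_two] at e10 e00
    refine (mul_eq_zero.1 (show (2 : F) * a = 0 by grind)).resolve_left h2
  · left
    by_contra hnc
    have hoff : ¬ (r1 = 0 ∧ r2 = 0 ∧ m1 = 0 ∧ m2 = 0) := fun ⟨e1, e2, e3, e4⟩ =>
      hnc (comm_of_isBlk (by constructor <;> simp [hMe, e1, e2, e3, e4]))
    set X := M * dJ with hX
    have hXe : (X : Mat) = !![a, -r1, -r2; m1, -w11, -w12; m2, -w21, -w22] := by
      rw [hX, Units.val_mul, coe_dJ, hMe]
      ext i j; fin_cases i <;> fin_cases j <;> simp [Matrix.mul_apply, Fin.sum_univ_three]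
    have ha : a = 1 ∨ a = -1 := by
      refine mul_self_eq_one_iff.1 ?_
      linear_combination q00 - hs0
    by_cases hrm : (r1 = 0 ∧ r2 = 0) ∨ (m1 = 0 ∧ m2 = 0)
    · -- common axis or common centre: the square of the product is a transvection
      refine hT (hasTrv_of_sq_zero hG (mul_mem (mul_mem hMG hdG) (mul_mem hMG hdG)) (fun e => ?_) ?_)
      · have e' : ((X * X : GL3) : Mat) = 1 := by rw [hX, e, Units.val_one]
        rw [Units.val_mul, hXe] at e'
        have e01 := congrFun (congrFun e' 0) 1; have e02 := congrFun (congrFun e' 0) 2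
        have e10 := congrFun (congrFun e' 1) 0; have e20 := congrFun (congrFun e' 2) 0
        simp [Matrix.mul_apply, Fin.sum_univ_three] at e01 e02 e10 e20
        refine hoff ⟨?_, ?_, ?_, ?_⟩ <;> rcases hrm with ⟨u1, u2⟩ | ⟨u1, u2⟩ <;> grind
      · show (((X * X : GL3) : Mat) - 1) * (((X * X : GL3) : Mat) - 1) = 0
        rw [Units.val_mul, hXe]
        ext i j
        rcases hrm with ⟨u1, u2⟩ | ⟨u1, u2⟩ <;>
          fin_cases i <;> fin_cases j <;> simp [Matrix.mul_apply, Fin.sum_univ_three, u1, u2] <;> grind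
    · -- regular unipotent product: a commutator is a transvection
      push Not at hrm
      have ha1 : a = 1 := by
        rcases ha with e | e
        · exact e
        · exfalso; grind
      subst ha1
      have hι0 : ι ≠ 0 := fun e => by rw [e, mul_zero] at hι; exact one_ne_zero (neg_eq_zero.1 hι.symm)
      set Y := g * X * g⁻¹ with hY
      have hYe : (Y : Mat) = !![1, -(ι * r1), -(ι * r2); -(ι * m1), -w11, -w12; -(ι * m2), -w21, -w22] := by
        have e : (!![1, -(ι * r1), -(ι * r2); -(ι * m1), -w11, -w12; -(ι * m2), -w21, -w22] : Mat) * (g : Mat) =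
            (g : Mat) * (X : Mat) := by
          rw [hg, hXe, coe_dJ]
          ext i j; fin_cases i <;> fin_cases j <;> simp [Matrix.mul_apply, Fin.sum_univ_three] <;> grind
        rw [hY, Units.val_mul, Units.val_mul, ← e, Matrix.mul_assoc, ← Units.val_mul, mul_inv_cancel, Units.val_one,
          mul_one]
      set E : Mat := !![0, 0, 0; 0, m1 * r1, m1 * r2; 0, m2 * r1, m2 * r2] with hE
      have hEX : E * (X : Mat) = E := by
        rw [hE, hXe]; ext i j; fin_cases i <;> fin_cases j <;> simp [Matrix.mul_apply, Fin.sum_univ_three] <;> grind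
      have hEY : E * (Y : Mat) = E := by
        rw [hE, hYe]; ext i j; fin_cases i <;> fin_cases j <;> simp [Matrix.mul_apply, Fin.sum_univ_three] <;> grind
      have hXY : (X : Mat) * (Y : Mat) = (1 + (-(2 * ι)) • E) * ((Y : Mat) * (X : Mat)) := by
        rw [add_mul, one_mul, Matrix.smul_mul, ← Matrix.mul_assoc, hEY, hEX, hE, hXe, hYe]
        ext i j; fin_cases i <;> fin_cases j <;> simp [Matrix.mul_apply, Fin.sum_univ_three] <;> grind
      have hXG : X ∈ G := mul_mem hMG hdG
      have hYG : Y ∈ G := mul_mem (mul_mem hgG hXG) (inv_mem hgG)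
      have hC : ((X * Y * (Y * X)⁻¹ : GL3) : Mat) = 1 + (-(2 * ι)) • E := by
        rw [Units.val_mul, Units.val_mul, hXY, Matrix.mul_assoc, ← Units.val_mul Y X, ← Units.val_mul,
          mul_inv_cancel, Units.val_one, mul_one]
      refine hT (hasTrv_of_sq_zero hG (mul_mem (mul_mem hXG hYG) (inv_mem (mul_mem hYG hXG))) (fun e => ?_) ?_)
      · rw [e, Units.val_one, left_eq_add, smul_eq_zero] at hC
        have hE0 := hC.resolve_left (neg_ne_zero.2 (mul_ne_zero h2 hι0))
        have f11 := congrFun (congrFun hE0 1) 1; have f12 := congrFun (congrFun hE0 1) 2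
        have f21 := congrFun (congrFun hE0 2) 1; have f22 := congrFun (congrFun hE0 2) 2
        simp [hE] at f11 f12 f21 f22
        grind
      · rw [hC, add_sub_cancel_left, Matrix.smul_mul, Matrix.mul_smul, smul_smul]
        have : E * E = 0 := by
          rw [hE]; ext i j; fin_cases i <;> fin_cases j <;> simp [Matrix.mul_apply, Fin.sum_univ_three] <;> grind
        rw [this, smul_zero]

end Cfsg.Agent.PSLThree.Two
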