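import Cfsg.Agent.Lib.PSLThree.Two.Wreathed
import Cfsg.Agent.Lib.Characters.Burnside
import Cfsg.Agent.InvChar.Octahedral

/-!
# Quasidihedral Sylow subgroups force the centraliser `GL₂(3)`
-/

set_option autoImplicit false
set_option linter.unusedSectionVars false
set_option linter.unusedSimpArgs false
set_option linter.style.haveILetI false
set_option maxHeartbeats 800000

namespace Cfsg.Agent.PSLThree.Two

open Matrix
open Cfsg.Agent.Involutions

local notation "S4" => Equiv.Perm (Fin 4)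

/-- membership of the normal four group -/
def InV (x : Equiv.Perm (Fin 4)) : Prop := x * x = 1 ∧ Equiv.Perm.sign x = 1

instance : DecidablePred InV := fun x => inferInstanceAs (Decidable (x * x = 1 ∧ Equiv.Perm.sign x = 1))

theorem inV_mul : ∀ x y : S4, InV x → InV y → InV (x * y) := by decide +kernel
theorem inV_conj : ∀ g x : S4, InV x → InV (g * x * g⁻¹) := by decide +kernel
theorem inV_one : InV 1 := by decide +kernel
theorem inV_comm : ∀ x : S4, InV x → ∃ a b : S4, a * b * a⁻¹ * b⁻¹ = x := by decide +kernel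
theorem inV_card : (Finset.univ.filter InV).card = 4 := by decide +kernel

/-- the normal four group -/
def vFour : Subgroup (Equiv.Perm (Fin 4)) where
  carrier := {x | InV x}
  one_mem' := inV_one
  mul_mem' := fun {x y} hx hy => inV_mul x y hx hy
  inv_mem' := fun {x} hx => by
    rw [Set.mem_setOf, inv_eq_of_mul_eq_one_right hx.1]; exact hx

theorem card_vFour : Nat.card vFour = 4 := by
  have e : Nat.card vFour = Nat.card {x : S4 // x ∈ Finset.univ.filter InV} :=
    Nat.card_congr (Equiv.subtypeEquivRight fun x => by simp [vFour])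
  rw [e, Nat.card_eq_finsetCard, inV_card]

theorem odd_normal_trivial : ∀ y : S4, y ≠ 1 → y ^ 3 = 1 →
    ∃ g : S4, (g * y * g⁻¹ * y⁻¹) ^ 2 = 1 ∧ g * y * g⁻¹ * y⁻¹ ≠ 1 := by decide +kernel

theorem quat_unique : ∀ x y : QuaternionGroup 4, x * x = 1 → x ≠ 1 → y * y = 1 → y ≠ 1 → x = y := by
  decide +kernel

/-- a central extension of `S₄` by an involution with a restriction on commutators is `GL₂(3)` -/
theorem gl_two_three {C : Type*} [Group C] [Finite C] (π : C →* S4) (hπ : Function.Surjective π)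
    (hcen : π.ker ≤ Subgroup.center C) (h2 : Nat.card π.ker = 2) {z : C} (hz : π z = 1) (hzo : orderOf z = 2)
    {s : C} (hs : orderOf s = 2) (hsz : s ≠ z)
    (hcomm : ∀ u a b k : C, orderOf u = 2 → u ≠ z → π k = 1 → u * b * a ≠ a * b * k) :
    Nonempty (C ≃* GL (Fin 2) (ZMod 3)) := by
  classical
  have : Fact (Nat.Prime 2) := ⟨Nat.prime_two⟩
  have hz2 : z * z = 1 := by rw [← pow_two, ← hzo, pow_orderOf_eq_one]
  have hs2 : s * s = 1 := by rw [← pow_two, ← hs, pow_orderOf_eq_one]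
  have hcard : Nat.card C = 2 ^ 4 * 3 ^ 1 := by
    have h1 := π.ker.card_mul_index
    rw [Subgroup.index_ker, h2, MonoidHom.range_eq_top.2 hπ, Subgroup.card_top, Nat.card_perm, Nat.card_fin] at h1
    rw [← h1]; rfl
  have hsol : Group.IsSolvable C := Cfsg.Agent.Characters.burnside_pa_qb Nat.prime_two Nat.prime_three hcard
  have hker : ∀ x : C, π x = 1 → x ^ 2 = 1 := fun x hx => by
    have := pow_card_eq_one' (x := (⟨x, hx⟩ : π.ker))
    rw [h2] at this
    exact congrArg Subtype.val this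
  have hO : Cfsg.oddCore C = ⊥ := by
    refine (Subgroup.eq_bot_iff_forall _).2 fun x hx => ?_
    have hodd : ∀ y ∈ Cfsg.oddCore C, y ^ 2 = 1 → y = 1 := fun y hy h2y => by
      have h1 := orderOf_dvd_of_pow_eq_one h2y
      have h3 := (Cfsg.oddCore C).orderOf_dvd_natCard hy
      have hc := Nat.Coprime.coprime_dvd_left h1
        (Nat.coprime_two_left.2 (Cores.oddCore_odd (G := C)))
      exact orderOf_eq_one_iff.1 ((Nat.coprime_self _).1 (hc.coprime_dvd_right h3))
    refine hodd x hx (hker x ?_)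
    by_contra hy
    have hn : (Cfsg.oddCore C).Normal := inferInstance
    have hy3 : π x ^ 3 = 1 := by
      rcases perm_four_small (π x) with h | h
      · exfalso
        obtain ⟨m, hm⟩ := Cores.oddCore_odd (G := C)
        have h1 : x ^ Nat.card (Cfsg.oddCore C) = 1 :=
          congrArg Subtype.val (pow_card_eq_one' (x := (⟨x, hx⟩ : Cfsg.oddCore C)))
        have h2' : π x ^ (2 * m + 1) = 1 := by rw [← map_pow, ← hm, h1, map_one]
        have h3 := pow_gcd_eq_one.2 ⟨h, h2'⟩
        rw [show Nat.gcd 4 (2 * m + 1) = 1 from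
          (Nat.Coprime.pow_left 2 (Nat.coprime_two_left.2 ⟨m, rfl⟩) : Nat.Coprime (2 ^ 2) _), pow_one] at h3
        exact hy h3
      · exact h
    obtain ⟨g, hg2, hg1⟩ := odd_normal_trivial _ hy hy3
    obtain ⟨g, rfl⟩ := hπ g
    have hmem : g * x * g⁻¹ * x⁻¹ ∈ Cfsg.oddCore C := mul_mem (hn.conj_mem x hx g) (inv_mem hx)
    have hπw : π (g * x * g⁻¹ * x⁻¹) = π g * π x * (π g)⁻¹ * (π x)⁻¹ := by simp
    have hw4 : (g * x * g⁻¹ * x⁻¹) ^ 2 = 1 := by
      have := hker ((g * x * g⁻¹ * x⁻¹) ^ 2) (by rw [map_pow, hπw, hg2])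
      exact hodd _ (pow_mem hmem 2) this
    exact hg1 (by rw [← hπw, hodd _ hmem hw4, map_one])
  -- the preimage of the four group
  set W := vFour.comap π with hW
  have hWn : W.Normal := by
    have : vFour.Normal := ⟨fun x hx g => inV_conj g x hx⟩
    exact this.comap π
  have hWp : IsPGroup 2 W := fun x => ⟨2, Subtype.ext (by
    rw [SubgroupClass.coe_pow, pow_two 2, pow_mul]
    exact hker _ (by rw [map_pow, pow_two]; exact x.2.1))⟩
  have hWle : ∀ P : Sylow 2 C, W ≤ (P : Subgroup C) := fun P => by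
    have := P.3 (P.isPGroup'.to_sup_of_normal_right hWp) le_sup_left
    rw [← this]; exact le_sup_right
  have hW8 : Nat.card W = 8 := by
    have h1 := W.card_mul_index
    have h3 := vFour.card_mul_index
    rw [hW, Subgroup.index_comap_of_surjective _ hπ, hcard, ← hW] at h1
    rw [card_vFour, Nat.card_perm, Nat.card_fin] at h3
    have : vFour.index = 6 := by
      have : Nat.factorial 4 = 24 := rfl
      omega
    rw [this] at h1; omega
  have hP16 : ∀ P : Sylow 2 C, Nat.card (P : Subgroup C) = 16 := fun P => by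
    rw [P.card_eq_multiplicity, hcard, Nat.factorization_mul (by norm_num) (by norm_num), Finsupp.add_apply,
      Nat.Prime.factorization_pow Nat.prime_two, Finsupp.single_eq_same, Nat.factorization_eq_zero_of_not_dvd (by norm_num)]
    norm_num
  have hI : ∀ P Q : Sylow 2 C, P ≠ Q → Cfsg.PRankLE 2 1 ↥((P : Subgroup C) ⊓ (Q : Subgroup C)) := by
    intro P Q hne A _ hA
    have key : ∀ u : C, u ∈ (P : Subgroup C) → u ∈ (Q : Subgroup C) → u ^ 2 = 1 → u = 1 ∨ u = z := by
      intro u hP hQ hu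
      by_contra hn
      push Not at hn
      have huo : orderOf u = 2 := orderOf_eq_prime hu hn.1
      have huW : u ∈ W := by
        by_contra huW
        have hle : W ≤ (P : Subgroup C) ⊓ (Q : Subgroup C) := le_inf (hWle P) (hWle Q)
        set D := (P : Subgroup C) ⊓ (Q : Subgroup C) with hD
        have hd1 : Nat.card W ∣ Nat.card D := Subgroup.card_dvd_of_le hle
        have hd2 : Nat.card D ∣ 16 := hP16 P ▸ Subgroup.card_dvd_of_le inf_le_left
        have hne8 : Nat.card D ≠ 8 := fun h8 => huW (by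
          rw [Subgroup.eq_of_le_of_card_ge hle (by rw [hW8, h8])]; exact ⟨hP, hQ⟩)
        have h16 : 16 ≤ Nat.card D := by
          obtain ⟨j, hj, e⟩ := (Nat.dvd_prime_pow Nat.prime_two (m := 4)).1 hd2
          rw [hW8, e] at hd1
          rw [e] at hne8 ⊢
          revert hd1 hne8
          interval_cases j <;> norm_num
        have e1 : D = (P : Subgroup C) := Subgroup.eq_of_le_of_card_ge inf_le_left (by rw [hP16]; exact h16)
        have e2 : D = (Q : Subgroup C) := Subgroup.eq_of_le_of_card_ge inf_le_right (by rw [hP16]; exact h16)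
        exact hne (Sylow.ext (e1.symm.trans e2))
      obtain ⟨a, b, hab⟩ := inV_comm _ huW
      obtain ⟨a, rfl⟩ := hπ a
      obtain ⟨b, rfl⟩ := hπ b
      refine hcomm u a b ((a * b)⁻¹ * (u * b * a)) huo hn.2 ?_ (by rw [mul_inv_cancel_left])
      simp only [map_mul, map_inv]
      rw [← hab]
      group
    have hle : Nat.card A ≤ ({1, z} : Finset C).card := by
      rw [← Nat.card_eq_finsetCard]
      refine Nat.card_le_card_of_injective (fun a => (⟨((a : ↥((P : Subgroup C) ⊓ (Q : Subgroup C))) : C), by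
        rcases key _ a.1.2.1 a.1.2.2 (congrArg Subtype.val (hA _ a.2)) with h | h <;> simp [h]⟩ :
          ({1, z} : Finset C))) fun a b h => Subtype.ext (Subtype.ext (congrArg (fun x : ({1, z} : Finset C) => (x : C)) h))
    exact hle.trans (Finset.card_le_two)
  rcases InvChar.Octahedral.main hO hI with ⟨P, hPn⟩ | h | ⟨-, -, -, hquat⟩
  · exfalso
    -- two transpositions of product of order three
    have hmem : ∀ y : S4, y ^ 2 = 1 → y ∈ (P : Subgroup C).map π := by
      intro y hy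
      obtain ⟨x, rfl⟩ := hπ y
      have hx4 : x ^ 4 = 1 := by
        rw [show 4 = 2 * 2 from rfl, pow_mul]; exact hker _ (by rw [map_pow, hy])
      obtain ⟨j, -, hj⟩ := (Nat.dvd_prime_pow Nat.prime_two (m := 2)).1 (orderOf_dvd_of_pow_eq_one hx4)
      have hzp : IsPGroup 2 (Subgroup.zpowers x) := IsPGroup.of_card (n := j) (by rw [Nat.card_zpowers, hj])
      have hle := P.3 (P.isPGroup'.to_sup_of_normal_left hzp) le_sup_left
      exact ⟨x, hle ▸ Subgroup.mem_sup_right (Subgroup.mem_zpowers x), rfl⟩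
    have h3 : (Equiv.swap 0 1 * Equiv.swap 1 2 : S4) ∈ (P : Subgroup C).map π :=
      mul_mem (hmem _ (by decide +kernel)) (hmem _ (by decide +kernel))
    obtain ⟨j, hj⟩ := (P.isPGroup'.map π) ⟨_, h3⟩
    have hj' := congrArg Subtype.val hj
    rw [SubgroupClass.coe_pow, Subgroup.coe_one] at hj'
    have h3' := pow_gcd_eq_one.2 ⟨hj', (by decide +kernel : (Equiv.swap 0 1 * Equiv.swap 1 2 : S4) ^ 3 = 1)⟩
    rw [(Nat.Coprime.pow_left j (by norm_num) : Nat.Coprime (2 ^ j) 3), pow_one] at h3'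
    have h4 : (Equiv.swap 0 1 * Equiv.swap 1 2 : S4) = 1 := h3'
    exact absurd h4 (by decide +kernel)
  · exact h
  · exfalso
    have hzs : Commute z s := (Subgroup.mem_center_iff.1 (hcen (MonoidHom.mem_ker.2 hz)) s).symm
    -- a Sylow subgroup with both involutions
    have hp : IsPGroup 2 (Subgroup.zpowers s) := IsPGroup.of_card (n := 1) (by rw [Nat.card_zpowers, hs]; rfl)
    obtain ⟨P, hP⟩ := hp.exists_le_sylow
    have hzP : z ∈ (P : Subgroup C) := hWle P (by rw [hW, Subgroup.mem_comap, hz]; exact one_mem _)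
    obtain ⟨e⟩ := hquat P
    have hsP : s ∈ (P : Subgroup C) := hP (Subgroup.mem_zpowers s)
    have hs1 : s ≠ 1 := fun h => by rw [h, orderOf_one] at hs; norm_num at hs
    have hz1 : z ≠ 1 := fun h => by rw [h, orderOf_one] at hzo; norm_num at hzo
    have := e.injective (quat_unique (e ⟨s, hsP⟩) (e ⟨z, hzP⟩)
      (by rw [← map_mul, show (⟨s, hsP⟩ : (P : Subgroup C)) * ⟨s, hsP⟩ = 1 from Subtype.ext hs2, map_one])
      (fun h => hs1 (congrArg Subtype.val (e.injective (h.trans (map_one e).symm))))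
      (by rw [← map_mul, show (⟨z, hzP⟩ : (P : Subgroup C)) * ⟨z, hzP⟩ = 1 from Subtype.ext hz2, map_one])
      (fun h => hz1 (congrArg Subtype.val (e.injective (h.trans (map_one e).symm)))))
    exact hsz (congrArg Subtype.val this)

variable {F : Type*} [Field F] {P : Subgroup (GL (Fin 3) F)}

local notation "GL3" => GL (Fin 3) F
local notation "Mat" => Matrix (Fin 3) (Fin 3) F

/-- a commutator on the centre and axis of an involution is not another involution there -/
theorem not_commutator (h2 : (2 : F) ≠ 0) (hP : P ≤ Cfsg.Geo.specialLinear (Fin 3) F) {J U A B K z : GL3}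
    (hJ : IsInv P J) (hU : IsInv P U) (hUJ : U ≠ J) (hz : z ∈ P) (hzs : z ∈ Cfsg.Geo.scalars (Fin 3) F)
    (hK : K = 1 ∨ K = J) (cU : Commute U J) (cA : Commute A J) (cB : Commute B J)
    (e : U * B * A = z * (A * B * K)) : False := by
  obtain ⟨T, hT⟩ := hJ.exists_dJ h2 hP
  obtain ⟨c, hc⟩ := (Cfsg.Geo.mem_scalars_iff z).1 hzs
  have bl : ∀ {g : GL3}, Commute g J → IsBlk ((T * g * T⁻¹ : GL3) : Mat) := fun hg =>
    isBlk_of_comm h2 (by rw [← hT]; exact hg.map (MulAut.conj T))
  have c00 : ∀ {g h : GL3}, Commute g J → ((T * (g * h) * T⁻¹ : GL3) : Mat) 0 0 =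
      ((T * g * T⁻¹ : GL3) : Mat) 0 0 * ((T * h * T⁻¹ : GL3) : Mat) 0 0 := fun {g h} hg => by
    have b := bl hg
    rw [← conj_mul, Units.val_mul (T * g * T⁻¹), Matrix.mul_apply, Fin.sum_univ_three, b.e01, b.e02, zero_mul,
      zero_mul, add_zero, add_zero]
  have hK0 : ((T * K * T⁻¹ : GL3) : Mat) 0 0 = 1 := by
    rcases hK with rfl | rfl
    · simp
    · rw [hT, coe_dJ]; simp
  have hu : ((T * U * T⁻¹ : GL3) : Mat) 0 0 = -1 := by
    refine ((hU.conj T).corner h2 (map_conj_le hP T) (by rw [← hT]; exact cU.map (MulAut.conj T)) fun e => hUJ ?_).1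
    rw [← hT] at e; exact (MulAut.conj T).injective e
  have hne : ∀ {g : GL3}, Commute g J → ((T * g * T⁻¹ : GL3) : Mat) 0 0 ≠ 0 := fun {g} hg h => by
    have := det_of_blk (bl hg)
    rw [h, zero_mul] at this
    exact Matrix.GeneralLinearGroup.det_ne_zero _ this
  have cz : Commute z J := scalar_comm hzs J
  have hz0 : ((T * z * T⁻¹ : GL3) : Mat) 0 0 = (c : F) := by
    rw [Units.val_mul, Units.val_mul, hc]; simp
  have h := congrArg (fun g => ((T * g * T⁻¹ : GL3) : Mat) 0 0) e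
  rw [c00 (cU.mul_left cB), c00 cU, c00 cz, c00 (cA.mul_left cB), c00 cA, hK0, hu, hz0, mul_one] at h
  have hc1 : (c : F) = -1 :=
    mul_right_cancel₀ (mul_ne_zero (hne cA) (hne cB)) (by linear_combination -h)
  have h3 : (c : F) ^ 3 = 1 := by
    have hd := det_eq_one hP hz
    rw [hc, Matrix.det_smul, Matrix.det_one, mul_one, Fintype.card_fin] at hd
    exact hd
  rw [hc1] at h3
  exact h2 (by linear_combination -h3)

theorem qd_centralizer [Fintype F] (h2 : (2 : F) ≠ 0) (p : ℕ) [Fact p.Prime] [CharP F p] (hC : Core P)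
    (hT : ¬ HasTrv P) (S : Sylow 2 (Bar P)) (hS : Cfsg.IsQuasiDihedral (S : Subgroup (Bar P))) :
    (3 : F) ≠ 0 ∧ ∃ t : Bar P, orderOf t = 2 ∧
      Nonempty (↥(Subgroup.centralizer ({t} : Set (Bar P))) ≃* GL (Fin 2) (ZMod 3)) := by
  classical
  have := hC.simple
  have : Fact (Nat.Prime 2) := ⟨Nat.prime_two⟩
  have hidx := index_ne_two hC.nonabelian
  have data : ∀ J : GL3, ∀ hJ : IsInv P J, ∃ ψ, Axis p P J hJ.mem ψ ∧ 2 ∣ Nat.card ψ.ker ∧ ¬ 4 ∣ Nat.card ψ.ker ∧
      ∃ s : ↥(Subgroup.centralizer ({((⟨J, hJ.mem⟩ : P) : Bar P)} : Set (Bar P))),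
        orderOf s = 2 ∧ (s : Bar P) ≠ ((⟨J, hJ.mem⟩ : P) : Bar P) := by
    intro J hJ
    obtain ⟨ψ, hψ, h | h⟩ := exists_axis h2 hC.le p hT S (Or.inl hS) hidx hJ
    · obtain ⟨-, he, h4, R, hR, -⟩ := h
      obtain ⟨D⟩ := QuasiDihedral.exists_gens hR
      refine ⟨ψ, hψ, he, h4, (D.y : ↥(Subgroup.centralizer ({((⟨J, hJ.mem⟩ : P) : Bar P)} : Set (Bar P)))),
        by rw [Subgroup.orderOf_coe]; exact D.hy, fun e => ?_⟩
      have hyk : ψ (D.y : ↥(Subgroup.centralizer ({((⟨J, hJ.mem⟩ : P) : Bar P)} : Set (Bar P)))) = 1 :=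
        (congrArg ψ (Subtype.ext e)).trans hψ.self
      have hxy : D.y * D.x = D.x * D.y := Subtype.ext
        (Subgroup.mem_center_iff.1 (hψ.central (MonoidHom.mem_ker.2 hyk)) _).symm
      have h := D.hxy
      rw [hxy, mul_inv_cancel_right] at h
      have hn := D.hn
      have h8 : 4 ≤ 2 ^ (D.n - 1) := by
        calc 4 = 2 ^ 2 := rfl
          _ ≤ _ := Nat.pow_le_pow_right two_pos (by omega)
      have h1 : D.x ^ (2 ^ (D.n - 1) - 1 - 1) = 1 := by
        have e1 : D.x ^ (2 ^ (D.n - 1) - 1 - 1) * D.x = 1 * D.x := by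
          rw [← pow_succ, show 2 ^ (D.n - 1) - 1 - 1 + 1 = 2 ^ (D.n - 1) - 1 by omega, ← h, one_mul]
        exact mul_right_cancel e1
      have h2' := Nat.le_of_dvd (by omega) (orderOf_dvd_of_pow_eq_one h1)
      rw [D.hx] at h2'
      have : 2 ^ (D.n - 1) < 2 ^ D.n := Nat.pow_lt_pow_right (by norm_num) (by omega)
      omega
    · exact (not_qd_wreathed hS h.1).elim
  have lift : ∀ x : Bar P, orderOf x = 2 → ∃ J, ∃ hJ : IsInv P J, ((⟨J, hJ.mem⟩ : P) : Bar P) = x := by
    intro x hx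
    obtain ⟨J, hJ, hsq, e⟩ := exists_inv_lift hC.le (x := x) (by rw [← pow_two, ← hx, pow_orderOf_eq_one])
    exact ⟨J, ⟨hJ, hsq, fun h1 => by subst h1; rw [show x = 1 from e.symm, orderOf_one] at hx; norm_num at hx⟩, e⟩
  -- the kernel of one involution embeds into the image for a commuting one
  have small : ∀ (J M : GL3) (hJ : IsInv P J) (hM : IsInv P M), Commute M J → J ≠ M →
      ∀ ψ, Axis p P J hJ.mem ψ → ∀ χ, Axis p P M hM.mem χ → Nat.card χ.ker ≤ 4 := by
    intro J M hJ hM hc hne ψ hψ χ hχ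
    have hin : ∀ x : χ.ker, ((x : ↥(Subgroup.centralizer ({((⟨M, hM.mem⟩ : P) : Bar P)} : Set (Bar P)))) : Bar P) ∈
        Subgroup.centralizer ({((⟨J, hJ.mem⟩ : P) : Bar P)} : Set (Bar P)) := by
      intro x
      obtain ⟨k, hk, ek⟩ := exists_rep ((x : ↥(Subgroup.centralizer ({((⟨M, hM.mem⟩ : P) : Bar P)} : Set (Bar P)))) : Bar P)
      have hkJ := (((hχ.mem_ker k hk x.1 ek).1 (MonoidHom.mem_ker.1 x.2)).commute hc.symm).symm
      rw [← ek]
      refine Subgroup.mem_centralizer_singleton_iff.2 ?_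
      rw [← QuotientGroup.mk_mul, ← QuotientGroup.mk_mul]
      exact congrArg _ (Subtype.ext hkJ.eq)
    let ι := ((Subgroup.centralizer ({((⟨M, hM.mem⟩ : P) : Bar P)} : Set (Bar P))).subtype.comp χ.ker.subtype).codRestrict
      (Subgroup.centralizer ({((⟨J, hJ.mem⟩ : P) : Bar P)} : Set (Bar P))) hin
    have hinj : Function.Injective (ψ.rangeRestrict.comp ι) := by
      refine (injective_iff_map_eq_one _).2 fun x hx => ?_
      obtain ⟨k, hk, ek⟩ := exists_rep ((x : ↥(Subgroup.centralizer ({((⟨M, hM.mem⟩ : P) : Bar P)} : Set (Bar P)))) : Bar P)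
      have hψ1 : ψ (ι x) = 1 := congrArg Subtype.val hx
      have h1 := (hψ.mem_ker k hk (ι x) ek).1 hψ1
      have h1' := (hχ.mem_ker k hk x.1 ek).1 (MonoidHom.mem_ker.1 x.2)
      have hs := scalar_of_two_spans h2 hC.le hJ hM hc.symm hne h1 h1'
      refine Subtype.ext (Subtype.ext ?_)
      rw [← ek]
      exact (mk_eq_one (hg := hk)).2 hs
    obtain ⟨e⟩ := hψ.range
    obtain ⟨g, hg⟩ := hχ.cyclic.exists_generator
    rw [← orderOf_eq_card_of_forall_mem_zpowers hg, ← orderOf_injective _ hinj g, ← e.orderOf_eq]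
    rcases perm_four_small (e ((ψ.rangeRestrict.comp ι) g)) with h | h
    · exact Nat.le_of_dvd (by norm_num) (orderOf_dvd_of_pow_eq_one h)
    · exact (Nat.le_of_dvd (by norm_num) (orderOf_dvd_of_pow_eq_one h)).trans (by norm_num)
  -- one pair
  obtain ⟨x, hx⟩ : ∃ x : Bar P, orderOf x = 2 := by
    obtain ⟨D⟩ := QuasiDihedral.exists_gens hS
    exact ⟨(D.y : Bar P), by rw [Subgroup.orderOf_coe]; exact D.hy⟩
  obtain ⟨J, hJ, rfl⟩ := lift x hx
  obtain ⟨ψ, hψ, he, h4, s, hs, hst⟩ := data J hJ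
  obtain ⟨M, hM, eM⟩ := lift (s : Bar P) (by rw [Subgroup.orderOf_coe]; exact hs)
  have hMJ : Commute M J := commute_inv_lift hC.le hJ.mem hM.mem hJ.sq (by
    rw [eM]; exact Subgroup.mem_centralizer_singleton_iff.1 s.2)
  have hne : J ≠ M := fun e => hst (by subst e; exact eM.symm)
  obtain ⟨χ, hχ, -⟩ := data M hM
  have hm := small M J hM hJ hMJ.symm hne.symm χ hχ ψ hψ
  have hk2 : Nat.card ψ.ker = 2 := by
    have h0 : 0 < Nat.card ψ.ker := Nat.card_pos
    omega
  obtain ⟨e⟩ := hψ.range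
  set π := e.toMonoidHom.comp ψ.rangeRestrict with hπ
  have hker : π.ker = ψ.ker := by
    rw [hπ]
    ext x
    simp [MonoidHom.mem_ker, Subtype.ext_iff]
  refine ⟨?_, _, hx, gl_two_three π (e.surjective.comp ψ.rangeRestrict_surjective) (hker.le.trans hψ.central)
    (by rw [hker]; exact hk2)
    (z := ⟨((⟨J, hJ.mem⟩ : P) : Bar P), Subgroup.mem_centralizer_singleton_iff.2 rfl⟩)
    (MonoidHom.mem_ker.1 (hker.ge (MonoidHom.mem_ker.2 hψ.self))) (by rw [← Subgroup.orderOf_coe]; exact hx) hs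
    (fun e' => hst (congrArg Subtype.val e')) ?_⟩
  · intro h3
    -- an element of order three on the axis
    have hp : p = 3 := by
      have h := (CharP.cast_eq_zero_iff F p 3).1 (by exact_mod_cast h3)
      exact (Nat.prime_dvd_prime_iff_eq (Fact.out : p.Prime) Nat.prime_three).1 h
    obtain ⟨y, hy⟩ : ∃ y : S4, orderOf y = 3 := ⟨Equiv.swap 0 1 * Equiv.swap 1 2,
      orderOf_eq_prime (hp := ⟨Nat.prime_three⟩) (by decide +kernel) (by decide +kernel)⟩
    obtain ⟨x, hx'⟩ := ψ.rangeRestrict_surjective (e.symm y)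
    refine hψ.order_ne x ?_
    rw [hp, show ψ x = ((e.symm y : ψ.range) : _) from congrArg Subtype.val hx', Subgroup.orderOf_coe,
      e.symm.orderOf_eq, hy]
  · intro u a b k hu hne' hk heq
    obtain ⟨U, hU, eU⟩ := lift (u : Bar P) (by rw [Subgroup.orderOf_coe]; exact hu)
    obtain ⟨A, hA, eA⟩ := exists_rep (a : Bar P)
    obtain ⟨B, hB, eB⟩ := exists_rep (b : Bar P)
    have hcm : ∀ {g : GL3} {x : ↥(Subgroup.centralizer ({((⟨J, hJ.mem⟩ : P) : Bar P)} : Set (Bar P)))} (hg : g ∈ P),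
        ((⟨g, hg⟩ : P) : Bar P) = x → Commute g J := fun {g x} hg hgx =>
      commute_inv_lift hC.le hJ.mem hg hJ.sq (by rw [hgx]; exact Subgroup.mem_centralizer_singleton_iff.1 x.2)
    -- the kernel is generated by the involution
    obtain ⟨K, hK, hKP, eK⟩ : ∃ K, (K = 1 ∨ K = J) ∧ ∃ hKP : K ∈ P, ((⟨K, hKP⟩ : P) : Bar P) = k := by
      have hk' : k ∈ ψ.ker := hker.le (MonoidHom.mem_ker.2 hk)
      by_cases hk1 : k = 1
      · exact ⟨1, Or.inl rfl, one_mem _, by rw [hk1]; rfl⟩
      · refine ⟨J, Or.inr rfl, hJ.mem, ?_⟩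
        haveI := hψ.cyclic
        have := cyclic_inv_unique (A := ψ.ker) (a := ⟨⟨_, Subgroup.mem_centralizer_singleton_iff.2 rfl⟩, MonoidHom.mem_ker.2 hψ.self⟩)
          (b := ⟨k, hk'⟩) (by rw [← Subgroup.orderOf_coe, ← Subgroup.orderOf_coe]; exact hx)
          (orderOf_eq_prime (by
            have h := pow_card_eq_one' (x := (⟨k, hk'⟩ : ψ.ker))
            rwa [hk2] at h) fun e' => hk1 (congrArg Subtype.val e'))
        exact congrArg (fun x : ψ.ker => x.1.1) this
    have hL : U * B * A ∈ P := mul_mem (mul_mem hU.mem hB) hA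
    have hR : A * B * K ∈ P := mul_mem (mul_mem hA hB) hKP
    have hB' : ((⟨A * B * K, hR⟩ : P) : Bar P) = ((⟨U * B * A, hL⟩ : P) : Bar P) := by
      rw [show (⟨A * B * K, hR⟩ : P) = ⟨A, hA⟩ * ⟨B, hB⟩ * ⟨K, hKP⟩ from rfl,
        show (⟨U * B * A, hL⟩ : P) = ⟨U, hU.mem⟩ * ⟨B, hB⟩ * ⟨A, hA⟩ from rfl, QuotientGroup.mk_mul,
        QuotientGroup.mk_mul, QuotientGroup.mk_mul, QuotientGroup.mk_mul, eA, eB, eK, eU]
      exact (congrArg Subtype.val heq).symm
    have hs' := (mk_eq (hg := hR) (hh := hL)).1 hB'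
    refine not_commutator h2 hC.le (K := K) (z := (A * B * K)⁻¹ * (U * B * A)) hJ hU
      (fun e' => hne' (Subtype.ext (by subst e'; exact eU.symm))) (mul_mem (inv_mem hR) hL) hs' hK
      (hcm hU.mem eU) (hcm hA eA) (hcm hB eB) ?_
    rw [(scalar_comm hs' (A * B * K)).eq, mul_inv_cancel_left]

end Cfsg.Agent.PSLThree.Two
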