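import Cfsg.Agent.Lib.PSLThree.Two.Local

/-!
# Wreathed Sylow subgroups do not occur without transvections
-/

set_option autoImplicit false
set_option linter.unusedSectionVars false
set_option linter.style.haveILetI false

namespace Cfsg.Agent.PSLThree.Two

open Matrix
open Cfsg.Agent.Involutions

theorem not_qd_wreathed {S : Type*} [Group S] [Finite S] (h : Cfsg.IsQuasiDihedral S) (h' : Cfsg.IsWreathed S) :
    False := by
  obtain ⟨D⟩ := QuasiDihedral.exists_gens h
  obtain ⟨E⟩ := Wreathed.exists_gens h'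
  have h1 := (S1193.result h D.n D.hcard).2.2.2.1
  have h2 := (S1197.result h' E.n E.hcard).2.1
  rw [h1] at h2
  have := Nat.pow_le_pow_right two_pos E.hn
  omega

theorem index_ne_two {A : Type*} [Group A] [Finite A] [IsSimpleGroup A] (hA : ¬ IsMulCommutative A)
    (H : Subgroup A) : H.index ≠ 2 := fun h => by
  have hn := Subgroup.normal_of_index_eq_two h
  rcases hn.eq_bot_or_eq_top with rfl | rfl
  · rw [Subgroup.index_bot] at h
    have : Fact (Nat.Prime 2) := ⟨Nat.prime_two⟩
    have : IsCyclic A := isCyclic_of_prime_card h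
    exact hA ⟨⟨(IsCyclic.commGroup (α := A)).mul_comm⟩⟩
  · simp at h

/-- in a non-abelian simple group no involution commutes with all involutions -/
theorem no_central_inv {A : Type*} [Group A] [IsSimpleGroup A] (hA : ¬ IsMulCommutative A) {c : A}
    (hc : orderOf c = 2) (h : ∀ x : A, orderOf x = 2 → Commute x c) : False := by
  set N := Subgroup.closure {x : A | orderOf x = 2} with hN
  have hn : N.Normal := ⟨fun y hy g => by
    have hle : N.map (MulAut.conj g).toMonoidHom ≤ N := by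
      rw [hN, MonoidHom.map_closure, Subgroup.closure_le]
      rintro _ ⟨x, hx, rfl⟩
      refine Subgroup.subset_closure ?_
      show orderOf ((MulAut.conj g).toMonoidHom x) = 2
      rw [orderOf_injective _ (MulAut.conj g).injective]
      exact hx
    exact hle ⟨y, hy, rfl⟩⟩
  have hc1 : c ≠ 1 := fun e => by rw [e, orderOf_one] at hc; norm_num at hc
  have hNtop : N = ⊤ := hn.eq_bot_or_eq_top.resolve_left fun e => hc1 <| by
    have : c ∈ N := Subgroup.subset_closure hc
    rwa [e, Subgroup.mem_bot] at this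
  have hcz : c ∈ Subgroup.center A := Subgroup.mem_center_iff.2 fun g => by
    have hle : N ≤ Subgroup.centralizer {c} := (Subgroup.closure_le _).2 fun x hx =>
      Subgroup.mem_centralizer_singleton_iff.2 (h x hx)
    exact Subgroup.mem_centralizer_singleton_iff.1 (hle (hNtop ▸ Subgroup.mem_top g))
  have hZ : Subgroup.center A = ⊤ := (inferInstance : (Subgroup.center A).Normal).eq_bot_or_eq_top.resolve_left fun e => hc1 <| by
    rwa [e, Subgroup.mem_bot] at hcz
  exact hA ⟨⟨fun a b => (Subgroup.mem_center_iff.1 (hZ ▸ Subgroup.mem_top b) a)⟩⟩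

variable {F : Type*} [Field F] {P : Subgroup (GL (Fin 3) F)}

local notation "GL3" => GL (Fin 3) F

/-- a graph of involutions with one common neighbour has a universal member -/
theorem exists_universal (h2 : (2 : F) ≠ 0) (hP : P ≤ Cfsg.Geo.specialLinear (Fin 3) F)
    (hyp : ∀ J M : GL3, IsInv P J → IsInv P M → Commute M J ∨ ((J * M : GL3) : Matrix (Fin 3) (Fin 3) F).trace = 1)
    {a b : GL3} (ha : IsInv P a) (hb : IsInv P b) (hc : Commute a b) (hne : a ≠ b) :
    ∃ c : GL3, IsInv P c ∧ ∀ x, IsInv P x → Commute x c := by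
  have member : ∀ {a b u : GL3}, IsInv P a → IsInv P b → IsInv P u → Commute a b → a ≠ b →
      Commute u a ∨ Commute u b ∨ Commute u (a * b) := by
    intro a b u ha hb hu hc hne
    by_contra hn
    push Not at hn
    exact ha.trace_frame h2 hP hb hu hc hne ((hyp a u ha hu).resolve_left hn.1)
      ((hyp b u hb hu).resolve_left hn.2.1) ((hyp _ u (ha.mul hb hc hne) hu).resolve_left hn.2.2)
  have split : ∀ {a c u w : GL3}, IsInv P a → IsInv P c → IsInv P u → IsInv P w → a ≠ c → Commute c a →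
      u ≠ c → Commute u c → ¬ Commute u a → w ≠ a → Commute w a → ¬ Commute w c → False := by
    intro a c u w ha hc hu hw hac hca huc hu' hua hwa hw' hwc
    obtain ⟨u', hu'I, hu'c, hwu', hu'a⟩ : ∃ u', IsInv P u' ∧ Commute u' c ∧ Commute w u' ∧ ¬ Commute u' a := by
      rcases member hc hu hw hu'.symm huc.symm with h | h | h
      · exact absurd h hwc
      · exact ⟨u, hu, hu', h, hua⟩
      · refine ⟨c * u, hc.mul hu hu'.symm huc.symm, (Commute.refl c).mul_left hu', h, fun e => hua ?_⟩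
        have e2 := (hca.mul_left e : Commute (c * (c * u)) a)
        rwa [← mul_assoc, hc.sq, one_mul] at e2
    have htr := (hyp a u' ha hu'I).resolve_left hu'a
    exact hwc ((ha.unique_common h2 hP hu'I hc hw htr hca hu'c.symm hw' hwu' hac.symm hwa) ▸ Commute.refl c)
  by_cases hall : ∀ x, IsInv P x → Commute x a
  · exact ⟨a, ha, hall⟩
  push Not at hall
  obtain ⟨u, hu, hua⟩ := hall
  obtain ⟨c, hcI, hac, hca, huc⟩ : ∃ c, IsInv P c ∧ a ≠ c ∧ Commute c a ∧ Commute u c := by
    rcases (member ha hb hu hc hne).resolve_left hua with h | h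
    · exact ⟨b, hb, hne, hc.symm, h⟩
    · exact ⟨a * b, ha.mul hb hc hne, fun e => hb.ne (mul_eq_left.1 e.symm), (Commute.refl a).mul_left hc.symm, h⟩
  refine ⟨c, hcI, fun x hx => ?_⟩
  by_contra hxc
  have hu_c : u ≠ c := fun e => hua (e ▸ hca)
  rcases member ha hcI hx hca.symm hac with h | h | h
  · exact split ha hcI hu hx hac hca hu_c huc hua (fun e => hxc (e ▸ hca.symm)) h hxc
  · exact hxc h
  · refine split (ha.mul hcI hca.symm hac) hcI hu hx (fun e => ha.ne (mul_eq_right.1 e))
      (hca.mul_right (Commute.refl c)) hu_c huc (fun e => hua ?_) (fun e => hxc (e ▸ hca.symm.mul_left (Commute.refl c))) h hxc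
    have e2 := e.mul_right huc
    rwa [mul_assoc, hcI.sq, mul_one] at e2

theorem wreathed_false [Fintype F] (h2 : (2 : F) ≠ 0) (p : ℕ) [Fact p.Prime] [CharP F p] (hC : Core P)
    (hT : ¬ HasTrv P) (S : Sylow 2 (Bar P)) (hS : Cfsg.IsWreathed (S : Subgroup (Bar P))) : False := by
  have := hC.simple
  have : Fact (Nat.Prime 2) := ⟨Nat.prime_two⟩
  have hidx := index_ne_two hC.nonabelian
  have half : ∀ J : GL3, IsInv P J → ∃ (k : GL3) (c ι : F), k ∈ P ∧ c ≠ 0 ∧ ι * ι = -1 ∧
      (k : Matrix (Fin 3) (Fin 3) F) = c • (1 + ι • (J : Matrix (Fin 3) (Fin 3) F)) := fun J hJ => by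
    obtain ⟨ψ, -, h | h⟩ := exists_axis h2 hC.le p hT S (Or.inr hS) hidx hJ
    · exact (not_qd_wreathed h.1 hS).elim
    · exact h.2
  have hyp : ∀ J M : GL3, IsInv P J → IsInv P M →
      Commute M J ∨ ((J * M : GL3) : Matrix (Fin 3) (Fin 3) F).trace = 1 := fun J M hJ hM => by
    obtain ⟨g, c, ι, hg, hc, hι, eg⟩ := half J hJ
    obtain ⟨h, c', ι', hh, hc', hι', eh⟩ := half M hM
    exact half_trace h2 hC.le p hT hJ hM hg hh hc hc' hι hι' eg eh
  -- two commuting involutions
  obtain ⟨D⟩ := Wreathed.exists_gens hS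
  have lift : ∀ x : Bar P, orderOf x = 2 → ∃ J, ∃ hJ : IsInv P J, ((⟨J, hJ.mem⟩ : P) : Bar P) = x := by
    intro x hx
    obtain ⟨J, hJ, hsq, e⟩ := exists_inv_lift hC.le (x := x) (by rw [← pow_two, ← hx, pow_orderOf_eq_one])
    exact ⟨J, ⟨hJ, hsq, fun h1 => by subst h1; rw [show x = 1 from e.symm, orderOf_one] at hx; norm_num at hx⟩, e⟩
  have hn := D.hn
  have hpow : ∀ w : (S : Subgroup (Bar P)), orderOf w = 2 ^ D.n →
      orderOf (((w ^ 2 ^ (D.n - 1) : (S : Subgroup (Bar P)))) : Bar P) = 2 := by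
    intro w hw
    rw [Subgroup.orderOf_coe, orderOf_pow' _ (by positivity), hw,
      Nat.gcd_eq_right (pow_dvd_pow 2 (Nat.sub_le _ _)), Nat.pow_div (Nat.sub_le _ _) two_pos,
      show D.n - (D.n - 1) = 1 by omega, pow_one]
  have hy : orderOf D.y = 2 ^ D.n := by
    rw [← D.hzx, ← MulAut.conj_apply, MulEquiv.orderOf_eq, D.hx]
  obtain ⟨a, ha, ea⟩ := lift _ (hpow D.x D.hx)
  obtain ⟨b, hb, eb⟩ := lift _ (hpow D.y hy)
  have hab : Commute a b := commute_inv_lift hC.le hb.mem ha.mem hb.sq (by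
    rw [ea, eb]
    exact ((Commute.pow_pow (show Commute D.x D.y from D.hxy) _ _).map (S : Subgroup (Bar P)).subtype))
  have hne : a ≠ b := by
    rintro rfl
    have e := Subtype.ext (ea.symm.trans eb)
    have hx2 : D.x ^ 2 ^ (D.n - 1) ∈ Subgroup.zpowers D.x ⊓ Subgroup.zpowers D.y :=
      ⟨Subgroup.pow_mem _ (Subgroup.mem_zpowers _) _, e ▸ Subgroup.pow_mem _ (Subgroup.mem_zpowers _) _⟩
    rw [D.hdis, Subgroup.mem_bot] at hx2
    have := hpow D.x D.hx
    rw [hx2, Subgroup.coe_one, orderOf_one] at this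
    norm_num at this
  obtain ⟨c, hc, hall⟩ := exists_universal h2 hC.le hyp ha hb hab hne
  refine no_central_inv hC.nonabelian (c := ((⟨c, hc.mem⟩ : P) : Bar P)) (Bar.orderOf_inv hC.le hc) fun x hx => ?_
  obtain ⟨J, hJ, rfl⟩ := lift x hx
  exact (Commute.map (show Commute (⟨J, hJ.mem⟩ : P) ⟨c, hc.mem⟩ from Subtype.ext (hall J hJ).eq)
    (QuotientGroup.mk' ((Cfsg.Geo.scalars (Fin 3) F).subgroupOf P)))

end Cfsg.Agent.PSLThree.Two
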